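import Mathlib
import Cfsg.Agent.S1545
import Cfsg.Agent.Lib.Helper34.Hughes
import Cfsg.Agent.Lib.Helper9.CN

/-!
# PF12 package (P8): structure of a Frobenius witness

Pure group theory.  `L = H ⋊ U` is a group "of Frobenius type" that is not a Frobenius group
(`y ∈ A ≤ U` of order `p` centralizes a non-identity element of `H`), and `S = K ⋊ E` is a Frobenius
group with `A ≤ K` and `L ⊓ S = U`.  Then `U ≤ K`, and either `K = U`, `|E|` divides `p ^ 2 - 1` and
`|E| ≤ p + 1`, or `|E|` divides `p - 1`, `p * |U| ≤ |K|` and `p ^ 3 ≤ |K|`.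
-/

set_option autoImplicit false

namespace Cfsg.Agent.Lib.Helper10.PF12

open Subgroup

variable {G : Type*} [Group G]

/-- In a Frobenius group `S = K ⋊ E` every element outside the kernel `K` centralizes no
non-identity element of `K`. -/
theorem frob_fpf_of_not_mem [Finite G] (S K E : Subgroup G)
    (hSK : S ≤ normalizer (K : Set G))
    (hES : E ≤ S)
    (hSKE : ∀ s ∈ S, ∃ k ∈ K, ∃ e ∈ E, s = k * e)
    (hfpf : ∀ e ∈ E, e ≠ 1 → ∀ k ∈ K, e * k = k * e → k = 1)
    {s : G} (hs : s ∈ S) (hsK : s ∉ K) : ∀ c ∈ K, s * c = c * s → c = 1 := by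
  obtain ⟨k, hk, e, he, rfl⟩ := hSKE s hs
  have he1 : e ≠ 1 := by
    rintro rfl
    exact hsK (by simpa using hk)
  have heN : ∀ x ∈ K, e * x * e⁻¹ ∈ K := by
    intro x hx
    exact ((mem_normalizer_iff.mp (hSK (hES he))) x).mp hx
  have heN' : ∀ x ∈ K, e⁻¹ * x * e ∈ K := by
    intro x hx
    have := ((mem_normalizer_iff.mp (hSK (hES he))) (e⁻¹ * x * e)).mpr (by
      have : e * (e⁻¹ * x * e) * e⁻¹ = x := by group
      rw [this]; exact hx)
    exact this
  -- the map `x ↦ x * e * x⁻¹ * e⁻¹` on `K` is injective, hence surjective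
  let f : K → K := fun x => ⟨(x : G) * (e * (x : G)⁻¹ * e⁻¹), K.mul_mem x.2 (heN _ (K.inv_mem x.2))⟩
  have hf : Function.Injective f := by
    intro x₁ x₂ h
    have h' : (x₁ : G) * (e * (x₁ : G)⁻¹ * e⁻¹) = (x₂ : G) * (e * (x₂ : G)⁻¹ * e⁻¹) :=
      congrArg Subtype.val h
    have hc : e * ((x₂ : G)⁻¹ * (x₁ : G)) = ((x₂ : G)⁻¹ * (x₁ : G)) * e := by
      have h1 : (x₂ : G)⁻¹ * (x₁ : G) * e * (x₁ : G)⁻¹ = e * (x₂ : G)⁻¹ := by
        have : (x₂ : G)⁻¹ * ((x₁ : G) * (e * (x₁ : G)⁻¹ * e⁻¹)) * e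
            = (x₂ : G)⁻¹ * ((x₂ : G) * (e * (x₂ : G)⁻¹ * e⁻¹)) * e := by rw [h']
        calc (x₂ : G)⁻¹ * (x₁ : G) * e * (x₁ : G)⁻¹
            = (x₂ : G)⁻¹ * ((x₁ : G) * (e * (x₁ : G)⁻¹ * e⁻¹)) * e := by group
          _ = (x₂ : G)⁻¹ * ((x₂ : G) * (e * (x₂ : G)⁻¹ * e⁻¹)) * e := this
          _ = e * (x₂ : G)⁻¹ := by group
      calc e * ((x₂ : G)⁻¹ * (x₁ : G)) = (e * (x₂ : G)⁻¹) * (x₁ : G) := by group
        _ = ((x₂ : G)⁻¹ * (x₁ : G) * e * (x₁ : G)⁻¹) * (x₁ : G) := by rw [h1]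
        _ = ((x₂ : G)⁻¹ * (x₁ : G)) * e := by group
    have h1 := hfpf e he he1 _ (K.mul_mem (K.inv_mem x₂.2) x₁.2) hc
    apply Subtype.ext
    have : (x₁ : G) = (x₂ : G) * ((x₂ : G)⁻¹ * (x₁ : G)) := by group
    rw [this, h1, mul_one]
  have hsurj : Function.Surjective f := Finite.surjective_of_injective hf
  obtain ⟨x, hx⟩ := hsurj ⟨k, hk⟩
  have hx' : (x : G) * (e * (x : G)⁻¹ * e⁻¹) = k := congrArg Subtype.val hx
  intro c hc hcomm
  -- `k * e = x * e * x⁻¹`
  have hke : k * e = (x : G) * e * (x : G)⁻¹ := by rw [← hx']; group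
  rw [hke] at hcomm
  have hc' : e * ((x : G)⁻¹ * c * (x : G)) = ((x : G)⁻¹ * c * (x : G)) * e := by
    calc e * ((x : G)⁻¹ * c * (x : G)) = (x : G)⁻¹ * (((x : G) * e * (x : G)⁻¹) * c) * (x : G) := by group
      _ = (x : G)⁻¹ * (c * ((x : G) * e * (x : G)⁻¹)) * (x : G) := by rw [hcomm]
      _ = ((x : G)⁻¹ * c * (x : G)) * e := by group
  have h1 := hfpf e he he1 _ (K.mul_mem (K.mul_mem (K.inv_mem x.2) hc) x.2) hc'
  have : c = (x : G) * ((x : G)⁻¹ * c * (x : G)) * (x : G)⁻¹ := by group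
  rw [this, h1]; group

/-- `U ≤ K`: the complement `U = L ⊓ S` of the non-Frobenius group `L = H ⋊ U` lies in the kernel of
the Frobenius witness `S = K ⋊ E`. -/
theorem le_kernel [Finite G] (L H U U₁ S K E A : Subgroup G) (y : G)
    (hUL : U ≤ L) (hLH : L ≤ normalizer (H : Set G)) (hHU : H ⊓ U = ⊥)
    (hcop : (Nat.card H).Coprime (Nat.card U)) (hHsolv : Group.IsSolvable H)
    (hU₁ab : ∀ a ∈ U₁, ∀ b ∈ U₁, a * b = b * a)
    (hU₁ : ∀ x ∈ H, x ≠ 1 → ∀ u ∈ U, u * x = x * u → u ∈ U₁)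
    (hAU : A ≤ U) (hA1 : A ≠ ⊥) (hUA : U ≤ normalizer (A : Set G))
    (hCHA : H ⊓ centralizer (A : Set G) = ⊥)
    (hyA : y ∈ A) (hy1 : y ≠ 1) (hyH : ∃ x ∈ H, x ≠ 1 ∧ x * y = y * x)
    (hSK : S ≤ normalizer (K : Set G)) (hES : E ≤ S)
    (hSKE : ∀ s ∈ S, ∃ k ∈ K, ∃ e ∈ E, s = k * e)
    (hfpf : ∀ e ∈ E, e ≠ 1 → ∀ k ∈ K, e * k = k * e → k = 1)
    (hAK : A ≤ K) (hUS : U ≤ S) : U ≤ K := by
  intro w hwU
  by_contra hwK
  have hwS : w ∈ S := hUS hwU
  have hF := fun {s : G} (hs : s ∈ S) (hsK : s ∉ K) =>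
    frob_fpf_of_not_mem S K E hSK hES hSKE hfpf hs hsK
  have hpow : ∀ g ∈ zpowers w, g ≠ 1 → g ∉ K := by
    intro g hg hg1 hgK
    have hcomm : w * g = g * w := by
      obtain ⟨n, rfl⟩ := hg
      exact (Commute.zpow_right (Commute.refl w) n).eq
    exact hg1 (hF hwS hwK g hgK hcomm)
  have hzS : zpowers w ≤ S := zpowers_le.mpr hwS
  have hzU : zpowers w ≤ U := zpowers_le.mpr hwU
  have hsupU : A ⊔ zpowers w ≤ U := sup_le hAU hzU
  have hw1 : w ≠ 1 := fun h => hwK (h ▸ K.one_mem)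
  have hE1 : zpowers w ≠ ⊥ := zpowers_ne_bot.mpr hw1
  have hUE : A ⊓ zpowers w = ⊥ := by
    rw [eq_bot_iff]
    rintro g ⟨hgA, hgz⟩
    rw [mem_bot]
    by_contra hg1
    exact hpow g hgz hg1 (hAK hgA)
  have hUn : ∀ e ∈ zpowers w, ∀ u ∈ A, e * u * e⁻¹ ∈ A := fun e he u hu =>
    ((mem_normalizer_iff.mp (hUA (hzU he))) u).mp hu
  have hfpf' : ∀ e ∈ zpowers w, e ≠ 1 → ∀ u ∈ A, e * u = u * e → u = 1 := fun e he he1 u hu h =>
    hF (hzS he) (hpow e he he1) u (hAK hu) h
  have hHn : ∀ x ∈ A ⊔ zpowers w, ∀ h ∈ H, x * h * x⁻¹ ∈ H := fun x hx h hh =>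
    ((mem_normalizer_iff.mp (hLH (hUL (hsupU hx)))) h).mp hh
  have hdisj : H ⊓ (A ⊔ zpowers w) = ⊥ :=
    eq_bot_iff.mpr (le_trans (inf_le_inf_left H hsupU) (le_of_eq hHU))
  have hcop' : Nat.Coprime (Nat.card H) (Nat.card ↥(A ⊔ zpowers w)) :=
    Nat.Coprime.coprime_dvd_right (Subgroup.card_dvd_of_le hsupU) hcop
  have key := Cfsg.Agent.S1545.result A (zpowers w) H hA1 hE1 hUE hUn hfpf' hHn hdisj hHsolv hcop'
  have h1 : Nat.card ↥(H ⊓ centralizer (A : Set G)) = 1 := by rw [hCHA]; exact Subgroup.card_bot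
  have h2 : H ⊓ centralizer (((A ⊔ zpowers w : Subgroup G)) : Set G) = ⊥ := by
    rw [eq_bot_iff, ← hCHA]
    exact inf_le_inf_left H (Subgroup.centralizer_le (SetLike.coe_subset_coe.mpr le_sup_left))
  have h2' : Nat.card ↥(H ⊓ centralizer (((A ⊔ zpowers w : Subgroup G)) : Set G)) = 1 := by
    rw [h2]; exact Subgroup.card_bot
  rw [h1, h2', one_pow, one_mul, mul_one] at key
  obtain ⟨x', hx'H, hx'1, hx'y⟩ := hyH
  by_cases hC : H ⊓ centralizer ((zpowers w : Subgroup G) : Set G) = ⊥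
  · rw [hC, Subgroup.card_bot, one_pow] at key
    have hHbot : H = ⊥ := (Subgroup.card_eq_one).mp key
    rw [hHbot, mem_bot] at hx'H
    exact hx'1 hx'H
  · obtain ⟨x, hx1⟩ := (Subgroup.ne_bot_iff_exists_ne_one).mp hC
    have hxH : (x : G) ∈ H := (x.2).1
    have hxC : (x : G) ∈ centralizer ((zpowers w : Subgroup G) : Set G) := (x.2).2
    have hx1' : (x : G) ≠ 1 := fun h => hx1 (Subtype.ext h)
    have hwx : w * (x : G) = (x : G) * w := (mem_centralizer_iff.mp hxC) w (mem_zpowers w)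
    have hwU₁ := hU₁ x hxH hx1' w hwU hwx
    have hyU₁ := hU₁ x' hx'H hx'1 y (hAU hyA) hx'y.symm
    have hwy : w * y = y * w := hU₁ab w hwU₁ y hyU₁
    exact hy1 (hF hwS hwK y (hAK hyA) hwy)

/-- A group acting by conjugation without fixed points on the non-identity elements of a subgroup `Z`
has order dividing `|Z| - 1`. -/
theorem card_dvd_sub_one_of_fpf [Finite G] (E Z : Subgroup G)
    (hEZ : ∀ e ∈ E, ∀ z ∈ Z, e * z * e⁻¹ ∈ Z)
    (hfpf : ∀ e ∈ E, e ≠ 1 → ∀ z ∈ Z, e * z = z * e → z = 1) :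
    Nat.card E ∣ Nat.card Z - 1 := by
  classical
  let _ : MulAction E ↥((Z : Set G) \ {1}) :=
    { smul := fun e z => ⟨(e : G) * z.1 * (e : G)⁻¹, hEZ e e.2 z.1 z.2.1, by
        intro h
        apply z.2.2
        rw [Set.mem_singleton_iff] at h ⊢
        have : z.1 = (e : G)⁻¹ * ((e : G) * z.1 * (e : G)⁻¹) * (e : G) := by group
        rw [this, h]; group⟩
      one_smul := by
        intro z
        apply Subtype.ext
        show ((1 : E) : G) * z.1 * ((1 : E) : G)⁻¹ = z.1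
        simp
      mul_smul := by
        intro a b z
        apply Subtype.ext
        show ((a * b : E) : G) * z.1 * ((a * b : E) : G)⁻¹
          = (a : G) * ((b : G) * z.1 * (b : G)⁻¹) * (a : G)⁻¹
        simp [mul_assoc] }
  have hstab : ∀ b : ↥((Z : Set G) \ {1}), MulAction.stabilizer E b = ⊥ := by
    intro b
    rw [eq_bot_iff]
    intro e he
    rw [Subgroup.mem_bot]
    by_contra he1
    have h1 : (e : G) * b.1 * (e : G)⁻¹ = b.1 :=
      congrArg Subtype.val (MulAction.mem_stabilizer_iff.1 he)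
    have h2 : (e : G) * b.1 = b.1 * (e : G) := by
      calc (e : G) * b.1 = ((e : G) * b.1 * (e : G)⁻¹) * (e : G) := by group
        _ = b.1 * (e : G) := by rw [h1]
    have h3 := hfpf e e.2 (fun h => he1 (Subtype.ext h)) b.1 b.2.1 h2
    exact b.2.2 (by rw [Set.mem_singleton_iff]; exact h3)
  have e := MulAction.selfEquivOrbitsQuotientProd hstab
  have hX : Nat.card ↥((Z : Set G) \ {1}) = Nat.card Z - 1 := by
    rw [Nat.card_coe_set_eq, Set.ncard_sdiff_singleton_of_mem (Z.one_mem)]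
    congr 1
  rw [← hX, Nat.card_congr e, Nat.card_prod]
  exact dvd_mul_left _ _

/-- A non-identity element of a cyclic group of prime order generates it. -/
theorem zpowers_eq_of_mem_of_prime [Finite G] {p : ℕ} [hp : Fact p.Prime] {y z : G}
    (hy : y ^ p = 1) (hz : z ∈ zpowers y) (hz1 : z ≠ 1) : zpowers z = zpowers y := by
  have hy1 : y ≠ 1 := by
    rintro rfl
    rw [zpowers_one_eq_bot, mem_bot] at hz
    exact hz1 hz
  have hzp : z ^ p = 1 := by
    obtain ⟨n, rfl⟩ := hz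
    rw [← zpow_natCast, ← zpow_mul, mul_comm, zpow_mul, zpow_natCast, hy, one_zpow]
  apply Subgroup.eq_of_le_of_card_ge (zpowers_le.mpr hz)
  rw [Nat.card_zpowers, Nat.card_zpowers, orderOf_eq_prime hy hy1, orderOf_eq_prime hzp hz1]

/-- If `p * |U| > |K|` for a subgroup `U` of a nilpotent group `K`, then every `p`-element of `K`
lies in `U`. -/
theorem pElement_mem_of_lt [Finite G] {p : ℕ} [hp : Fact p.Prime] (K U : Subgroup G)
    (hUK : U ≤ K) (hKnil : Group.IsNilpotent K) (hlt : Nat.card K < p * Nat.card U)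
    {g : G} (hgK : g ∈ K) {n : ℕ} (hg : g ^ p ^ n = 1) : g ∈ U := by
  have hsyl : ∀ (r : ℕ) (_ : Fact r.Prime) (P : Sylow r K), (P : Subgroup K).Normal :=
    (Group.isNilpotent_of_finite_tfae.out 0 3).mp hKnil
  -- the `p`-subgroup generated by `g` inside `K` lies in a Sylow `p`-subgroup `Q` of `K`
  have hzp : IsPGroup p (zpowers (⟨g, hgK⟩ : K)) := by
    have hord : orderOf (⟨g, hgK⟩ : K) ∣ p ^ n := by
      apply orderOf_dvd_of_pow_eq_one
      apply Subtype.ext
      simpa using hg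
    obtain ⟨j, -, hj⟩ := (Nat.dvd_prime_pow hp.out).mp hord
    exact IsPGroup.of_card ((Nat.card_zpowers _).trans hj)
  obtain ⟨Q, hQ⟩ := hzp.exists_le_sylow
  have := hsyl p hp Q
  let U' : Subgroup K := U.subgroupOf K
  -- `U'.relIndex Q` is a power of `p` smaller than `p`
  have hcardU' : Nat.card U' = Nat.card U := Nat.card_congr (Subgroup.subgroupOfEquivOfLe hUK).toEquiv
  have hidx : U'.index < p := by
    have h1 := Subgroup.card_mul_index U'
    rw [hcardU'] at h1
    have hpos : 0 < Nat.card U := Nat.card_pos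
    by_contra hcon
    rw [not_lt] at hcon
    have : p * Nat.card U ≤ Nat.card K := by
      rw [← h1, mul_comm]
      exact Nat.mul_le_mul_left _ hcon
    omega
  have hrel : U'.relIndex (Q : Subgroup K) ≤ U'.index := by
    have := Subgroup.relIndex_le_of_le_right (H := U') (K := (Q : Subgroup K)) (L := ⊤) le_top
      (by rw [Subgroup.relIndex_top_right]; exact Subgroup.index_ne_zero_of_finite)
    rwa [Subgroup.relIndex_top_right] at this
  obtain ⟨m, hm⟩ := (Q.2).index (U'.subgroupOf (Q : Subgroup K))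
  have hm' : U'.relIndex (Q : Subgroup K) = p ^ m := hm
  have hm0 : m = 0 := by
    by_contra hm0
    have : p ≤ p ^ m := Nat.le_self_pow hm0 p
    omega
  rw [hm0, pow_zero] at hm'
  have hQU : (Q : Subgroup K) ≤ U' := Subgroup.relIndex_eq_one.mp hm'
  have : (⟨g, hgK⟩ : K) ∈ U' := hQU (hQ (mem_zpowers _))
  exact Subgroup.mem_subgroupOf.mp this

/-- **PF12 package (P8).**  Structure of a Frobenius witness `S = K ⋊ E` for a group `L = H ⋊ U` of
Frobenius type in which `y ∈ A ≤ U` (of order `p`) centralizes a non-identity element of `H`. -/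
theorem structure_main [Finite G] (L H U U₁ S K E A : Subgroup G) (p : ℕ) [hp : Fact p.Prime] (y : G)
    (hUL : U ≤ L) (hLH : L ≤ normalizer (H : Set G)) (hHU : H ⊓ U = ⊥)
    (hcop : (Nat.card H).Coprime (Nat.card U)) (hHsolv : Group.IsSolvable H)
    (hU₁ab : ∀ a ∈ U₁, ∀ b ∈ U₁, a * b = b * a)
    (hU₁ : ∀ x ∈ H, x ≠ 1 → ∀ u ∈ U, u * x = x * u → u ∈ U₁)
    (hAU : A ≤ U) (hAcard : Nat.card A = p ^ 2) (hAexp : ∀ a ∈ A, a ^ p = 1)
    (hUA : U ≤ normalizer (A : Set G))
    (hAp : ∀ u ∈ U, u ^ p = 1 → u ∈ A)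
    (hAcent : ∀ R : Subgroup G, R ≤ U → IsPGroup p R → R ≤ centralizer (A : Set G))
    (hCHA : H ⊓ centralizer (A : Set G) = ⊥) (hCA : centralizer (A : Set G) ≤ U)
    (hyA : y ∈ A) (hy1 : y ≠ 1) (hyH : ∃ x ∈ H, x ≠ 1 ∧ x * y = y * x)
    (hNy : normalizer ((zpowers y : Subgroup G) : Set G) ≤ L)
    (hES : E ≤ S) (hSK : S ≤ normalizer (K : Set G)) (hKE : K ⊓ E = ⊥)
    (hSKE : ∀ s ∈ S, ∃ k ∈ K, ∃ e ∈ E, s = k * e)
    (hfpf : ∀ e ∈ E, e ≠ 1 → ∀ k ∈ K, e * k = k * e → k = 1)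
    (hKnil : Group.IsNilpotent K) (hAK : A ≤ K) (hLS : L ⊓ S = U) :
    U ≤ K ∧
      ((K = U ∧ Nat.card E ∣ p ^ 2 - 1 ∧ Nat.card E ≤ p + 1) ∨
       (Nat.card E ∣ p - 1 ∧ p * Nat.card U ≤ Nat.card K ∧ p ^ 3 ≤ Nat.card K)) := by
  have hUS : U ≤ S := hLS ▸ inf_le_right
  have hA1 : A ≠ ⊥ := by
    intro h
    rw [h, Subgroup.card_bot] at hAcard
    have := hp.out.one_lt
    have : 1 < p ^ 2 := Nat.one_lt_pow two_ne_zero this
    omega
  have hUK : U ≤ K := le_kernel L H U U₁ S K E A y hUL hLH hHU hcop hHsolv hU₁ab hU₁ hAU hA1 hUA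
    hCHA hyA hy1 hyH hSK hES hSKE hfpf hAK hUS
  refine ⟨hUK, ?_⟩
  have hp2 : 2 ≤ p := hp.out.two_le
  by_cases hc : K ≤ centralizer (A : Set G)
  · left
    have hKU : K = U := le_antisymm (hc.trans hCA) hUK
    -- `S` normalizes `A`
    have hSA : ∀ s ∈ S, ∀ a ∈ A, s * a * s⁻¹ ∈ A := by
      intro s hs a ha
      apply hAp
      · rw [← hKU]; exact ((mem_normalizer_iff.mp (hSK hs)) a).mp (hAK ha)
      · rw [conj_pow, hAexp a ha]; group
    refine ⟨hKU, ?_, ?_⟩
    · have := card_dvd_sub_one_of_fpf E A (fun e he a ha => hSA e (hES he) a ha)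
        (fun e he he1 a ha h => hfpf e he he1 a (hAK ha) h)
      rwa [hAcard] at this
    · -- the `E`-conjugates of `⟨y⟩` are pairwise distinct subgroups of order `p` of `A`
      have hyp : y ^ p = 1 := hAexp y hyA
      let f : ↥E × ↥(((zpowers y : Subgroup G) : Set G) \ {1}) → ↥((A : Set G) \ {1}) :=
        fun ez => ⟨(ez.1 : G) * ez.2.1 * (ez.1 : G)⁻¹,
          hSA ez.1 (hES ez.1.2) ez.2.1 ((zpowers_le.mpr hyA) ez.2.2.1), by
            intro h
            apply ez.2.2.2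
            rw [Set.mem_singleton_iff] at h ⊢
            have : ez.2.1 = (ez.1 : G)⁻¹ * ((ez.1 : G) * ez.2.1 * (ez.1 : G)⁻¹) * (ez.1 : G) := by
              group
            rw [this, h]; group⟩
      have hf : Function.Injective f := by
        rintro ⟨e₁, z₁⟩ ⟨e₂, z₂⟩ h
        have h' : (e₁ : G) * z₁.1 * (e₁ : G)⁻¹ = (e₂ : G) * z₂.1 * (e₂ : G)⁻¹ :=
          congrArg Subtype.val h
        have hz₁ : z₁.1 ≠ 1 := fun h0 => z₁.2.2 (by rw [Set.mem_singleton_iff]; exact h0)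
        have hz₂ : z₂.1 ≠ 1 := fun h0 => z₂.2.2 (by rw [Set.mem_singleton_iff]; exact h0)
        have hZ₁ : zpowers z₁.1 = zpowers y := zpowers_eq_of_mem_of_prime hyp z₁.2.1 hz₁
        have hZ₂ : zpowers z₂.1 = zpowers y := zpowers_eq_of_mem_of_prime hyp z₂.2.1 hz₂
        -- `g = e₂⁻¹ e₁` conjugates `z₁` to `z₂`
        have hg : ((e₂ : G)⁻¹ * (e₁ : G)) * z₁.1 * ((e₂ : G)⁻¹ * (e₁ : G))⁻¹ = z₂.1 := by
          calc ((e₂ : G)⁻¹ * (e₁ : G)) * z₁.1 * ((e₂ : G)⁻¹ * (e₁ : G))⁻¹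
              = (e₂ : G)⁻¹ * ((e₁ : G) * z₁.1 * (e₁ : G)⁻¹) * (e₂ : G) := by group
            _ = (e₂ : G)⁻¹ * ((e₂ : G) * z₂.1 * (e₂ : G)⁻¹) * (e₂ : G) := by rw [h']
            _ = z₂.1 := by group
        have hgN : (e₂ : G)⁻¹ * (e₁ : G) ∈ normalizer ((zpowers y : Subgroup G) : Set G) := by
          rw [mem_normalizer_iff]
          intro x
          constructor
          · intro hx
            have hx' : x ∈ zpowers z₁.1 := hZ₁.ge hx
            obtain ⟨n, rfl⟩ := hx'
            rw [← conj_zpow, hg]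
            exact hZ₂.le (zpow_mem (mem_zpowers _) n)
          · intro hx
            have hx' : ((e₂ : G)⁻¹ * (e₁ : G)) * x * ((e₂ : G)⁻¹ * (e₁ : G))⁻¹ ∈ zpowers z₂.1 :=
              hZ₂.ge hx
            obtain ⟨n, hn⟩ := hx'
            have hxe : x = z₁.1 ^ n := by
              have h3 : ((e₂ : G)⁻¹ * (e₁ : G)) * (z₁.1 ^ n) * ((e₂ : G)⁻¹ * (e₁ : G))⁻¹
                  = ((e₂ : G)⁻¹ * (e₁ : G)) * x * ((e₂ : G)⁻¹ * (e₁ : G))⁻¹ := by
                rw [← conj_zpow, hg]; exact hn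
              exact (mul_left_cancel (mul_right_cancel h3)).symm
            rw [hxe]
            exact hZ₁.le (zpow_mem (mem_zpowers _) n)
        have hgE : (e₂ : G)⁻¹ * (e₁ : G) ∈ E := E.mul_mem (E.inv_mem e₂.2) e₁.2
        have hgU : (e₂ : G)⁻¹ * (e₁ : G) ∈ U := by
          rw [← hLS]; exact ⟨hNy hgN, hES hgE⟩
        have hg1 : (e₂ : G)⁻¹ * (e₁ : G) = 1 := by
          have : (e₂ : G)⁻¹ * (e₁ : G) ∈ K ⊓ E := ⟨hUK hgU, hgE⟩
          rw [hKE, mem_bot] at this
          exact this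
        have he : (e₁ : G) = (e₂ : G) := by
          have := inv_mul_eq_one.mp hg1
          exact this.symm
        have he' : e₁ = e₂ := Subtype.ext he
        subst he'
        have hz : z₁.1 = z₂.1 := by
          exact mul_left_cancel (mul_right_cancel h')
        have hz' : z₁ = z₂ := Subtype.ext hz
        rw [hz']
      have hle := Nat.card_le_card_of_injective f hf
      have hc1 : Nat.card ↥(((zpowers y : Subgroup G) : Set G) \ {1}) = p - 1 := by
        rw [Nat.card_coe_set_eq, Set.ncard_sdiff_singleton_of_mem ((zpowers y).one_mem)]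
        congr 1
        have := Nat.card_zpowers y
        rw [orderOf_eq_prime hyp hy1] at this
        exact this
      have hc2 : Nat.card ↥((A : Set G) \ {1}) = p ^ 2 - 1 := by
        rw [Nat.card_coe_set_eq, Set.ncard_sdiff_singleton_of_mem (A.one_mem)]
        congr 1
      rw [Nat.card_prod, hc1, hc2] at hle
      have hfac : p ^ 2 - 1 = (p + 1) * (p - 1) := by
        have h0 : ∀ q : ℕ, (q + 1) ^ 2 - 1 = (q + 1 + 1) * (q + 1 - 1) := by
          intro q
          have h1 : q + 1 - 1 = q := by omega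
          rw [h1]
          have h2 : (q + 1) ^ 2 = (q + 1 + 1) * q + 1 := by ring
          omega
        have h3 : p = (p - 1) + 1 := by omega
        rw [h3]
        exact h0 (p - 1)
      rw [hfac] at hle
      exact Nat.le_of_mul_le_mul_right hle (by omega)
  · right
    -- the rest of `K` does not centralize `A`, so `p * |U| ≤ |K|`
    have hbig : p * Nat.card U ≤ Nat.card K := by
      by_contra hcon
      rw [not_le] at hcon
      apply hc
      intro k hk
      rw [mem_centralizer_iff]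
      intro a ha
      have : Group.IsNilpotent K := hKnil
      -- split the order of `k`
      obtain ⟨i, t, hpt, hN⟩ := Nat.exists_eq_pow_mul_and_not_dvd
        (orderOf_pos (⟨k, hk⟩ : K)).ne' p hp.out.ne_one
      have hcopr : IsCoprime (t : ℤ) ((p : ℤ) ^ i) := by
        have : Nat.Coprime t (p ^ i) :=
          Nat.Coprime.pow_right i ((Nat.Prime.coprime_iff_not_dvd hp.out).mpr hpt).symm
        exact_mod_cast Nat.isCoprime_iff_coprime.mpr this
      obtain ⟨u, v, huv⟩ := hcopr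
      -- `k ^ t` is a `p`-element, so it lies in `U` and centralizes `A`
      have h1 : (k ^ t) ^ p ^ i = 1 := by
        have : (⟨k, hk⟩ : K) ^ (p ^ i * t) = 1 := by rw [← hN]; exact pow_orderOf_eq_one _
        have h' : k ^ (p ^ i * t) = 1 := by
          have := congrArg Subtype.val this
          simpa using this
        rw [← pow_mul, mul_comm]; exact h'
      have hktU : k ^ t ∈ U := pElement_mem_of_lt K U hUK hKnil hcon (K.pow_mem hk t) h1
      have hzP : IsPGroup p (zpowers (k ^ t)) := by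
        have hord : orderOf (k ^ t) ∣ p ^ i := orderOf_dvd_of_pow_eq_one h1
        obtain ⟨j, -, hj⟩ := (Nat.dvd_prime_pow hp.out).mp hord
        exact IsPGroup.of_card ((Nat.card_zpowers _).trans hj)
      have hc1 : a * k ^ t = k ^ t * a :=
        (mem_centralizer_iff.mp (hAcent (zpowers (k ^ t)) (zpowers_le.mpr hktU) hzP (mem_zpowers _)))
          a ha
      -- `k ^ (p ^ i)` has order prime to `p`, so it commutes with `a` in the nilpotent group `K`
      have hc2 : a * k ^ p ^ i = k ^ p ^ i * a := by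
        have ho1 : orderOf ((⟨k, hk⟩ : K) ^ p ^ i) ∣ t := by
          apply orderOf_dvd_of_pow_eq_one
          rw [← pow_mul, ← hN]; exact pow_orderOf_eq_one _
        have ho2 : orderOf (⟨a, hAK ha⟩ : K) ∣ p := by
          apply orderOf_dvd_of_pow_eq_one
          apply Subtype.ext
          simpa using hAexp a ha
        have hco : (orderOf (⟨a, hAK ha⟩ : K)).Coprime (orderOf ((⟨k, hk⟩ : K) ^ p ^ i)) :=
          Nat.Coprime.coprime_dvd_left ho2
            (Nat.Coprime.coprime_dvd_right ho1 ((Nat.Prime.coprime_iff_not_dvd hp.out).mpr hpt))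
        have := Cfsg.Agent.Lib.Helper9.commute_of_coprime_orderOf_of_isNilpotent K
          (⟨a, hAK ha⟩ : K) ((⟨k, hk⟩ : K) ^ p ^ i) hco
        have := congrArg Subtype.val this
        simpa using this
      -- `k = (k ^ t) ^ u * (k ^ (p ^ i)) ^ v`
      have hk' : k = (k ^ t) ^ u * (k ^ p ^ i) ^ v := by
        have e1 : (k ^ t) ^ u = k ^ ((t : ℤ) * u) := by rw [zpow_mul, zpow_natCast]
        have e2 : (k ^ p ^ i) ^ v = k ^ (((p : ℤ) ^ i) * v) := by
          rw [zpow_mul]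
          congr 1
          rw [← zpow_natCast, Nat.cast_pow]
        rw [e1, e2, ← zpow_add]
        have e3 : (t : ℤ) * u + (p : ℤ) ^ i * v = 1 := by linarith
        rw [e3, zpow_one]
      have hcu : a * (k ^ t) ^ u = (k ^ t) ^ u * a := ((Commute.zpow_right (show Commute a (k ^ t) from hc1) u)).eq
      have hcv : a * (k ^ p ^ i) ^ v = (k ^ p ^ i) ^ v * a :=
        ((Commute.zpow_right (show Commute a (k ^ p ^ i) from hc2) v)).eq
      rw [hk']
      calc a * ((k ^ t) ^ u * (k ^ p ^ i) ^ v) = (a * (k ^ t) ^ u) * (k ^ p ^ i) ^ v := by group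
        _ = ((k ^ t) ^ u * a) * (k ^ p ^ i) ^ v := by rw [hcu]
        _ = (k ^ t) ^ u * (a * (k ^ p ^ i) ^ v) := by group
        _ = (k ^ t) ^ u * ((k ^ p ^ i) ^ v * a) := by rw [hcv]
        _ = (k ^ t) ^ u * (k ^ p ^ i) ^ v * a := by group
    -- a central element of order `p` of `K`
    have hpK : p ∣ Nat.card K := by
      have := Subgroup.card_dvd_of_le hAK
      rw [hAcard] at this
      exact dvd_trans (dvd_pow_self p two_ne_zero) this
    obtain ⟨z, hzc, hz1, j, hzj⟩ :=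
      Cfsg.Agent.Lib.Helper34.exists_center_of_nilpotent (N := K) hKnil p hpK
    have hpc : p ∣ Nat.card (center K) := by
      have hord : orderOf (⟨z, hzc⟩ : center K) ∣ p ^ j := by
        apply orderOf_dvd_of_pow_eq_one
        apply Subtype.ext
        simpa using hzj
      obtain ⟨m, -, hm⟩ := (Nat.dvd_prime_pow hp.out).mp hord
      have hm0 : m ≠ 0 := by
        rintro rfl
        rw [pow_zero, orderOf_eq_one_iff] at hm
        exact hz1 (congrArg Subtype.val hm)
      exact dvd_trans (hm ▸ dvd_pow_self p hm0) (orderOf_dvd_natCard _)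
    obtain ⟨c, hc0⟩ := exists_prime_orderOf_dvd_card' (G := center K) p hpc
    -- `zc` as an element of `G`
    have hcK : ((c : K) : G) ∈ K := (c : K).2
    have hcp : ((c : K) : G) ^ p = 1 := by
      have : c ^ p = 1 := by rw [← hc0]; exact pow_orderOf_eq_one c
      have := congrArg (fun x : center K => ((x : K) : G)) this
      simpa using this
    have hc1 : ((c : K) : G) ≠ 1 := by
      intro h
      have : c = 1 := by
        apply Subtype.ext; apply Subtype.ext; simpa using h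
      rw [this, orderOf_one] at hc0
      exact hp.out.one_lt.ne hc0
    have hccent : ∀ k ∈ K, k * ((c : K) : G) = ((c : K) : G) * k := by
      intro k hk
      have := (Subgroup.mem_center_iff.mp c.2) (⟨k, hk⟩ : K)
      have := congrArg Subtype.val this
      simpa using this
    -- the subgroup `Zc` of central elements of `K` lying in `A`
    let Zc : Subgroup G := (K ⊓ centralizer (K : Set G)) ⊓ A
    have hmemA : ∀ g ∈ K ⊓ centralizer (K : Set G), g ^ p = 1 → g ∈ A := by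
      intro g hg hgp
      apply hAp _ _ hgp
      apply hCA
      rw [mem_centralizer_iff]
      intro a ha
      exact (mem_centralizer_iff.mp hg.2) a (hAK ha)
    have hcZ : ((c : K) : G) ∈ Zc :=
      ⟨⟨hcK, mem_centralizer_iff.mpr hccent⟩,
        hmemA _ ⟨hcK, mem_centralizer_iff.mpr hccent⟩ hcp⟩
    have hZcA : Zc ≤ A := inf_le_right
    have hZcard : Nat.card Zc = p := by
      have hdvd := Subgroup.card_dvd_of_le hZcA
      rw [hAcard] at hdvd
      obtain ⟨m, hm2, hm⟩ := (Nat.dvd_prime_pow hp.out).mp hdvd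
      interval_cases m
      · exfalso
        rw [pow_zero, Subgroup.card_eq_one] at hm
        have : ((c : K) : G) ∈ (⊥ : Subgroup G) := hm ▸ hcZ
        exact hc1 (mem_bot.mp this)
      · rw [hm, pow_one]
      · exfalso
        have hEq : Zc = A := Subgroup.eq_of_le_of_card_ge hZcA (by rw [hm, hAcard])
        apply hc
        rw [Subgroup.le_centralizer_iff]
        intro a ha
        have : a ∈ Zc := hEq ▸ ha
        exact this.1.2
    have hEZ : ∀ e ∈ E, ∀ z ∈ Zc, e * z * e⁻¹ ∈ Zc := by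
      intro e he z hz
      have hzp : (e * z * e⁻¹) ^ p = 1 := by rw [conj_pow, hAexp z hz.2]; group
      have hN := mem_normalizer_iff.mp (hSK (hES he))
      have hin : e * z * e⁻¹ ∈ K ⊓ centralizer (K : Set G) := by
        refine Subgroup.mem_inf.mpr ⟨(hN z).mp hz.1.1, ?_⟩
        rw [mem_centralizer_iff]
        intro k hk
        have hk' : e⁻¹ * k * e ∈ K := by
          rw [hN (e⁻¹ * k * e)]
          have : e * (e⁻¹ * k * e) * e⁻¹ = k := by group
          rw [this]; exact hk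
        have h3 := (mem_centralizer_iff.mp hz.1.2) _ hk'
        calc k * (e * z * e⁻¹) = e * ((e⁻¹ * k * e) * z) * e⁻¹ := by group
          _ = e * (z * (e⁻¹ * k * e)) * e⁻¹ := by rw [h3]
          _ = e * z * e⁻¹ * k := by group
      exact ⟨hin, hmemA _ hin hzp⟩
    have hdiv := card_dvd_sub_one_of_fpf E Zc hEZ
      (fun e he he1 z hz h => hfpf e he he1 z hz.1.1 h)
    rw [hZcard] at hdiv
    refine ⟨hdiv, hbig, ?_⟩
    have hAle : p ^ 2 ≤ Nat.card U := by
      rw [← hAcard]; exact Subgroup.card_le_of_le hAU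
    calc p ^ 3 = p * p ^ 2 := by ring
      _ ≤ p * Nat.card U := Nat.mul_le_mul_left p hAle
      _ ≤ Nat.card K := hbig

end Cfsg.Agent.Lib.Helper10.PF12
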