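import Mathlib
import Cfsg.Agent.Lib.Helper10.PF12.Structure
import Cfsg.Agent.Lib.Helper48.Generation

/-!
# PF12 packages (AR), (TH), (ST): arithmetic consequences of the structure of a Frobenius witness

Pure group theory, same hypotheses as `structure_main`.
-/

set_option autoImplicit false

namespace Cfsg.Agent.Lib.Helper10.PF12

open Subgroup

variable {G : Type*} [Group G]

/-- Conjugation by an element normalizing `H` preserves the derived subgroup `⁅H, H⁆`. -/
theorem conj_mem_commutator_self {H : Subgroup G} {a : G} (ha : a ∈ normalizer (H : Set G))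
    {x : G} (hx : x ∈ (⁅H, H⁆ : Subgroup G)) : a * x * a⁻¹ ∈ (⁅H, H⁆ : Subgroup G) := by
  have hmap : H.map (MulAut.conj a).toMonoidHom = H := by
    ext z
    constructor
    · rintro ⟨w, hw, rfl⟩
      exact ((mem_normalizer_iff.mp ha) w).mp hw
    · intro hz
      refine ⟨a⁻¹ * z * a, ?_, ?_⟩
      · apply ((mem_normalizer_iff.mp ha) (a⁻¹ * z * a)).mpr
        have : a * (a⁻¹ * z * a) * a⁻¹ = z := by group
        rw [this]; exact hz
      · show a * (a⁻¹ * z * a) * a⁻¹ = z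
        group
  have h1 : (MulAut.conj a).toMonoidHom x ∈ (⁅H, H⁆ : Subgroup G).map (MulAut.conj a).toMonoidHom :=
    Subgroup.mem_map_of_mem _ hx
  rw [Subgroup.map_commutator, hmap] at h1
  exact h1

/-- The derived subgroup of a non-trivial solvable subgroup is a proper subgroup. -/
theorem commutator_self_ne_of_solvable {H : Subgroup G} (hHsolv : Group.IsSolvable H)
    (hH1 : H ≠ ⊥) : (⁅H, H⁆ : Subgroup G) ≠ H := by
  intro h
  have hnt : Nontrivial H := (Subgroup.nontrivial_iff_ne_bot H).mpr hH1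
  have hlt := Group.IsSolvable.commutator_lt_top_of_nontrivial H
  have h2 : (_root_.commutator H).map H.subtype = (⊤ : Subgroup H).map H.subtype := by
    rw [Subgroup.map_subtype_commutator, h, ← MonoidHom.range_eq_map, Subgroup.range_subtype]
  exact hlt.ne (Subgroup.map_injective H.subtype_injective h2)

/-- **PF12 package (TH).**  Some non-identity element of `A` centralizes an element of `H` outside
the derived subgroup `⁅H, H⁆` (coprime generation for the non-cyclic group `A`). -/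
theorem exists_singular_not_mem_commutator [Finite G] (L H U A : Subgroup G) (p : ℕ)
    [hp : Fact p.Prime]
    (hUL : U ≤ L) (hLH : L ≤ normalizer (H : Set G))
    (hcop : (Nat.card H).Coprime (Nat.card U)) (hHsolv : Group.IsSolvable H) (hH1 : H ≠ ⊥)
    (hAU : A ≤ U) (hAcard : Nat.card A = p ^ 2) (hAexp : ∀ a ∈ A, a ^ p = 1) :
    ∃ u ∈ A, u ≠ 1 ∧ ∃ x ∈ H, x ∉ (⁅H, H⁆ : Subgroup G) ∧ x * u = u * x := by
  by_contra hcon
  push Not at hcon
  have hp2 : 2 ≤ p := hp.out.two_le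
  have hcomm : ∀ x ∈ A, ∀ y ∈ A, x * y = y * x := by
    intro x hx y hy
    have hc := IsPGroup.isMulCommutative_of_card_eq_prime_sq (G := A) hAcard
    have := hc.is_comm.comm ⟨x, hx⟩ ⟨y, hy⟩
    exact congrArg Subtype.val this
  have hnc : ¬ IsCyclic A := by
    intro hc
    obtain ⟨g, hg⟩ := hc.exists_generator
    have h1 : orderOf g = Nat.card A := orderOf_eq_card_of_forall_mem_zpowers hg
    have h2 : g ^ p = 1 := Subtype.ext (by simpa using hAexp g g.2)
    have h3 : orderOf g ∣ p := orderOf_dvd_of_pow_eq_one h2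
    rw [h1, hAcard] at h3
    have h4 := Nat.le_of_dvd (by omega) h3
    nlinarith
  have hR : ¬ p ∣ Nat.card H := by
    intro h
    have h1 : p ∣ Nat.card U := by
      have : Nat.card A ∣ Nat.card U := Subgroup.card_dvd_of_le hAU
      rw [hAcard] at this
      exact (dvd_pow_self p two_ne_zero).trans this
    have := Nat.eq_one_of_dvd_coprimes hcop h h1
    omega
  have hle : H ≤ (⁅H, H⁆ : Subgroup G) := by
    apply Cfsg.Agent.Lib.Helper48.coprime_generation_le H A hcomm hAexp hnc hR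
      ((hAU.trans hUL).trans hLH)
    intro u hu hu1 x hx
    have hxH := hx.1
    have hxc := Subgroup.mem_centralizer_iff.mp hx.2 u (Set.mem_singleton u)
    by_contra hx'
    exact hcon u hu hu1 x hxH hx' hxc.symm
  have hDH : (⁅H, H⁆ : Subgroup G) ≤ H :=
    Subgroup.commutator_le.mpr (fun g₁ h₁ g₂ h₂ =>
      H.mul_mem (H.mul_mem (H.mul_mem h₁ h₂) (H.inv_mem h₁)) (H.inv_mem h₂))
  exact commutator_self_ne_of_solvable hHsolv hH1 (le_antisymm hDH hle)

/-- **PF12 package (AR), part 2.**  `|H : H'| ≥ p + 1`, because `A` acts on `H / H'` without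
non-trivial fixed points. -/
theorem relIndex_commutator_ge [Finite G] (L H U A : Subgroup G) (p : ℕ) [hp : Fact p.Prime]
    (hUL : U ≤ L) (hLH : L ≤ normalizer (H : Set G))
    (hcop : (Nat.card H).Coprime (Nat.card U)) (hHsolv : Group.IsSolvable H) (hH1 : H ≠ ⊥)
    (hAU : A ≤ U) (hAcard : Nat.card A = p ^ 2)
    (hCHA : H ⊓ centralizer (A : Set G) = ⊥) :
    p + 1 ≤ (⁅H, H⁆ : Subgroup G).relIndex H := by
  classical
  have hp2 : 2 ≤ p := hp.out.two_le
  set D : Subgroup G := ⁅H, H⁆ with hD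
  have hDH : D ≤ H :=
    Subgroup.commutator_le.mpr (fun g₁ h₁ g₂ h₂ =>
      H.mul_mem (H.mul_mem (H.mul_mem h₁ h₂) (H.inv_mem h₁)) (H.inv_mem h₂))
  have hDne : D ≠ H := commutator_self_ne_of_solvable hHsolv hH1
  have hAN : A ≤ normalizer (H : Set G) := (hAU.trans hUL).trans hLH
  have hAp : IsPGroup p A := IsPGroup.of_card hAcard
  -- the action of `A` on `H \ D`
  let _ : MulAction A ↥((H : Set G) \ (D : Set G)) :=
    { smul := fun a z => ⟨(a : G) * z.1 * (a : G)⁻¹,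
        ((mem_normalizer_iff.mp (hAN a.2)) z.1).mp z.2.1, by
        intro h
        apply z.2.2
        have h' := conj_mem_commutator_self (H := H) (a := (a : G)⁻¹)
          (Subgroup.inv_mem _ (hAN a.2)) h
        have : (a : G)⁻¹ * ((a : G) * z.1 * (a : G)⁻¹) * ((a : G)⁻¹)⁻¹ = z.1 := by group
        rw [this] at h'
        exact h'⟩
      one_smul := by
        intro z
        apply Subtype.ext
        show ((1 : A) : G) * z.1 * ((1 : A) : G)⁻¹ = z.1
        simp
      mul_smul := by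
        intro a b z
        apply Subtype.ext
        show ((a * b : A) : G) * z.1 * ((a * b : A) : G)⁻¹
          = (a : G) * ((b : G) * z.1 * (b : G)⁻¹) * (a : G)⁻¹
        simp [mul_assoc] }
  have hfix : IsEmpty (MulAction.fixedPoints A ↥((H : Set G) \ (D : Set G))) := by
    constructor
    rintro ⟨z, hz⟩
    apply z.2.2
    have hzc : z.1 ∈ H ⊓ centralizer (A : Set G) := by
      refine ⟨z.2.1, Subgroup.mem_centralizer_iff.mpr ?_⟩
      intro a ha
      have h1 : (a : G) * z.1 * (a : G)⁻¹ = z.1 := congrArg Subtype.val (hz ⟨a, ha⟩)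
      calc a * z.1 = (a * z.1 * a⁻¹) * a := by group
        _ = z.1 * a := by rw [h1]
    rw [hCHA, Subgroup.mem_bot] at hzc
    rw [hzc]
    exact D.one_mem
  have hmod := hAp.card_modEq_card_fixedPoints ↥((H : Set G) \ (D : Set G))
  rw [Nat.card_of_isEmpty (α := MulAction.fixedPoints A ↥((H : Set G) \ (D : Set G)))] at hmod
  have hdvd : p ∣ Nat.card ↥((H : Set G) \ (D : Set G)) := (Nat.modEq_zero_iff_dvd).mp hmod
  have hX : Nat.card ↥((H : Set G) \ (D : Set G)) = Nat.card H - Nat.card D := by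
    rw [Nat.card_coe_set_eq, Set.ncard_sdiff (by exact_mod_cast hDH) (Set.toFinite _)]
    rfl
  have hmul : D.relIndex H * Nat.card D = Nat.card H := by
    have h1 := Subgroup.card_mul_index (D.subgroupOf H)
    rw [Nat.card_congr (Subgroup.subgroupOfEquivOfLe hDH).toEquiv] at h1
    rw [mul_comm]
    exact h1
  set m := D.relIndex H with hm
  have hDpos : 0 < Nat.card D := Nat.card_pos
  have hm1 : m ≠ 1 := by
    intro h1
    rw [h1, one_mul] at hmul
    exact hDne (Subgroup.eq_of_le_of_card_ge hDH hmul.ge)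
  have hm0 : m ≠ 0 := by
    intro h0
    rw [h0, zero_mul] at hmul
    have : 0 < Nat.card H := Nat.card_pos
    omega
  have hpD : ¬ p ∣ Nat.card D := by
    intro h
    have h1 : p ∣ Nat.card U := by
      have : Nat.card A ∣ Nat.card U := Subgroup.card_dvd_of_le hAU
      rw [hAcard] at this
      exact (dvd_pow_self p two_ne_zero).trans this
    have h2 : p ∣ Nat.card H := h.trans (Subgroup.card_dvd_of_le hDH)
    have := Nat.eq_one_of_dvd_coprimes hcop h2 h1
    omega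
  have hsub : Nat.card H - Nat.card D = (m - 1) * Nat.card D := by
    rw [← hmul, Nat.sub_mul, one_mul]
  rw [hX, hsub] at hdvd
  have hdvd' : p ∣ m - 1 := by
    rcases (Nat.Prime.dvd_mul hp.out).mp hdvd with h | h
    · exact h
    · exact absurd h hpD
  have := Nat.le_of_dvd (by omega) hdvd'
  omega

/-- **PF12 package (AR), part 1.**  Arithmetic of the Frobenius witness `S = K ⋊ E` when `|G|` is
odd: `U ≤ K`, `e = |E|` is odd, `3 ≤ e`, `e + 2 ≤ p`, `e ∣ p ^ 2 - 1`, `(e + 1) ^ 2 ≤ |K|` and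
`p ^ 2 ≤ |K|`. -/
theorem arith_main [Finite G] (L H U U₁ S K E A : Subgroup G) (p : ℕ) [hp : Fact p.Prime] (y : G)
    (hodd : Odd (Nat.card G)) (hE1 : E ≠ ⊥)
    (hUL : U ≤ L) (hLH : L ≤ normalizer (H : Set G)) (hHU : H ⊓ U = ⊥)
    (hcop : (Nat.card H).Coprime (Nat.card U)) (hHsolv : Group.IsSolvable H)
    (hU₁ab : ∀ a ∈ U₁, ∀ b ∈ U₁, a * b = b * a)
    (hU₁ : ∀ x ∈ H, x ≠ 1 → ∀ u ∈ U, u * x = x * u → u ∈ U₁)
    (hAU : A ≤ U) (hAcard : Nat.card A = p ^ 2) (hAexp : ∀ a ∈ A, a ^ p = 1)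
    (hUA : U ≤ normalizer (A : Set G))
    (hAp : ∀ u ∈ U, u ^ p = 1 → u ∈ A)
    (hAcent : ∀ R : Subgroup G, R ≤ U → IsPGroup p R → R ≤ centralizer (A : Set G))
    (hCHA : H ⊓ centralizer (A : Set G) = ⊥) (hCA : centralizer (A : Set G) ≤ U)
    (hyA : y ∈ A) (hy1 : y ≠ 1) (hyH : ∃ x ∈ H, x ≠ 1 ∧ x * y = y * x)
    (hNy : normalizer ((zpowers y : Subgroup G) : Set G) ≤ L)
    (hES : E ≤ S) (hSK : S ≤ normalizer (K : Set G)) (hKE : K ⊓ E = ⊥)
    (hSKE : ∀ s ∈ S, ∃ k ∈ K, ∃ e ∈ E, s = k * e)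
    (hfpf : ∀ e ∈ E, e ≠ 1 → ∀ k ∈ K, e * k = k * e → k = 1)
    (hKnil : Group.IsNilpotent K) (hAK : A ≤ K) (hLS : L ⊓ S = U) :
    U ≤ K ∧ Odd (Nat.card E) ∧ 3 ≤ Nat.card E ∧ Nat.card E + 2 ≤ p ∧
      Nat.card E ∣ p ^ 2 - 1 ∧ (Nat.card E + 1) ^ 2 ≤ Nat.card K ∧ p ^ 2 ≤ Nat.card K := by
  obtain ⟨hUK, hcase⟩ := structure_main L H U U₁ S K E A p y hUL hLH hHU hcop hHsolv hU₁ab hU₁ hAU
    hAcard hAexp hUA hAp hAcent hCHA hCA hyA hy1 hyH hNy hES hSK hKE hSKE hfpf hKnil hAK hLS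
  have hp2 : 2 ≤ p := hp.out.two_le
  have hEodd : Odd (Nat.card E) := Odd.of_dvd_nat hodd (Subgroup.card_subgroup_dvd_card E)
  have hEne1 : Nat.card E ≠ 1 := fun h => hE1 (Subgroup.card_eq_one.mp h)
  have hEpos : 0 < Nat.card E := Nat.card_pos
  have hpG : p ∣ Nat.card G := by
    have : Nat.card A ∣ Nat.card G := Subgroup.card_subgroup_dvd_card A
    rw [hAcard] at this
    exact (dvd_pow_self p two_ne_zero).trans this
  have hpodd : Odd p := Odd.of_dvd_nat hodd hpG
  have hK2 : p ^ 2 ≤ Nat.card K := by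
    rw [← hAcard]
    exact Subgroup.card_le_of_le hAK
  obtain ⟨a, ha⟩ := hEodd
  obtain ⟨b, hb⟩ := hpodd
  have hE3 : 3 ≤ Nat.card E := by omega
  have hdiv2 : p - 1 ∣ p ^ 2 - 1 := by
    simpa only [one_pow] using Nat.sub_dvd_pow_sub_pow p 1 2
  have hle : Nat.card E + 2 ≤ p ∧ Nat.card E ∣ p ^ 2 - 1 := by
    rcases hcase with ⟨-, hd, hle⟩ | ⟨hd, -, -⟩
    · refine ⟨?_, hd⟩
      have hne : Nat.card E ≠ p := by
        intro h
        rw [h] at hd
        have h1 : p ∣ p ^ 2 := dvd_pow_self p two_ne_zero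
        have h2 : 1 ≤ p ^ 2 := Nat.one_le_pow _ _ (by omega)
        have h3 : p ∣ p ^ 2 - (p ^ 2 - 1) := Nat.dvd_sub h1 hd
        have h4 : p ^ 2 - (p ^ 2 - 1) = 1 := by omega
        rw [h4] at h3
        have := Nat.le_of_dvd one_pos h3
        omega
      omega
    · refine ⟨?_, hd.trans hdiv2⟩
      have := Nat.le_of_dvd (by omega) hd
      omega
  refine ⟨hUK, ⟨a, ha⟩, hE3, hle.1, hle.2, ?_, hK2⟩
  have h1 : Nat.card E + 1 ≤ p := by omega
  calc (Nat.card E + 1) ^ 2 ≤ p ^ 2 := Nat.pow_le_pow_left h1 2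
    _ ≤ Nat.card K := hK2

/-- **PF12 package (ST).**  A subgroup `T ≤ U` which meets its conjugates under elements outside
`L` trivially satisfies `|T| * e + 2 ≤ |K|`. -/
theorem st_bound [Finite G] (L H U U₁ S K E A : Subgroup G) (p : ℕ) [hp : Fact p.Prime] (y : G)
    (hodd : Odd (Nat.card G)) (hE1 : E ≠ ⊥)
    (hUL : U ≤ L) (hLH : L ≤ normalizer (H : Set G)) (hHU : H ⊓ U = ⊥)
    (hcop : (Nat.card H).Coprime (Nat.card U)) (hHsolv : Group.IsSolvable H)
    (hU₁ab : ∀ a ∈ U₁, ∀ b ∈ U₁, a * b = b * a)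
    (hU₁ : ∀ x ∈ H, x ≠ 1 → ∀ u ∈ U, u * x = x * u → u ∈ U₁)
    (hAU : A ≤ U) (hAcard : Nat.card A = p ^ 2) (hAexp : ∀ a ∈ A, a ^ p = 1)
    (hUA : U ≤ normalizer (A : Set G))
    (hAp : ∀ u ∈ U, u ^ p = 1 → u ∈ A)
    (hAcent : ∀ R : Subgroup G, R ≤ U → IsPGroup p R → R ≤ centralizer (A : Set G))
    (hCHA : H ⊓ centralizer (A : Set G) = ⊥) (hCA : centralizer (A : Set G) ≤ U)
    (hyA : y ∈ A) (hy1 : y ≠ 1) (hyH : ∃ x ∈ H, x ≠ 1 ∧ x * y = y * x)
    (hNy : normalizer ((zpowers y : Subgroup G) : Set G) ≤ L)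
    (hES : E ≤ S) (hSK : S ≤ normalizer (K : Set G)) (hKE : K ⊓ E = ⊥)
    (hSKE : ∀ s ∈ S, ∃ k ∈ K, ∃ e ∈ E, s = k * e)
    (hfpf : ∀ e ∈ E, e ≠ 1 → ∀ k ∈ K, e * k = k * e → k = 1)
    (hKnil : Group.IsNilpotent K) (hAK : A ≤ K) (hLS : L ⊓ S = U)
    (T : Subgroup G) (hTU : T ≤ U)
    (hTI : ∀ w ∈ T, w ≠ 1 → ∀ n : G, n ∉ L → n * w * n⁻¹ ∉ T) :
    Nat.card T * Nat.card E + 2 ≤ Nat.card K := by
  obtain ⟨hUK, hcase⟩ := structure_main L H U U₁ S K E A p y hUL hLH hHU hcop hHsolv hU₁ab hU₁ hAU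
    hAcard hAexp hUA hAp hAcent hCHA hCA hyA hy1 hyH hNy hES hSK hKE hSKE hfpf hKnil hAK hLS
  obtain ⟨-, -, hE3, hEp, -, -, hK2⟩ := arith_main L H U U₁ S K E A p y hodd hE1 hUL hLH hHU hcop
    hHsolv hU₁ab hU₁ hAU hAcard hAexp hUA hAp hAcent hCHA hCA hyA hy1 hyH hNy hES hSK hKE hSKE hfpf
    hKnil hAK hLS
  have hp2 : 2 ≤ p := hp.out.two_le
  have hTpos : 0 < Nat.card T := Nat.card_pos
  rcases hcase with ⟨hKU, -, -⟩ | ⟨hd, hpU, -⟩
  · -- `K = U`: `T` and a conjugate `n T n⁻¹` (`n ∈ E`, `n ≠ 1`) meet trivially inside `K`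
    obtain ⟨n, hn1⟩ := (Subgroup.ne_bot_iff_exists_ne_one).mp hE1
    have hnE' : (n : G) ∈ E := n.2
    have hn1' : (n : G) ≠ 1 := fun h => hn1 (Subtype.ext h)
    have hnL : (n : G) ∉ L := by
      intro h
      have h1 : (n : G) ∈ L ⊓ S := ⟨h, hES hnE'⟩
      rw [hLS] at h1
      have h2 : (n : G) ∈ K ⊓ E := ⟨hUK h1, hnE'⟩
      rw [hKE, Subgroup.mem_bot] at h2
      exact hn1' h2
    have hTK : T ≤ K := hTU.trans hUK
    let f : T × T → K := fun x =>
      ⟨(x.1 : G) * ((n : G) * (x.2 : G) * (n : G)⁻¹),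
        K.mul_mem (hTK x.1.2) (((mem_normalizer_iff.mp (hSK (hES hnE'))) _).mp (hTK x.2.2))⟩
    have hf : Function.Injective f := by
      rintro ⟨a, b⟩ ⟨a', b'⟩ h
      have h' : (a : G) * ((n : G) * (b : G) * (n : G)⁻¹) = (a' : G) * ((n : G) * (b' : G) * (n : G)⁻¹) :=
        congrArg Subtype.val h
      have h1 : (n : G) * ((b : G) * (b' : G)⁻¹) * (n : G)⁻¹ = (a : G)⁻¹ * (a' : G) := by
        calc (n : G) * ((b : G) * (b' : G)⁻¹) * (n : G)⁻¹
            = (a : G)⁻¹ * ((a : G) * ((n : G) * (b : G) * (n : G)⁻¹)) * ((n : G) * (b' : G) * (n : G)⁻¹)⁻¹ := by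
              group
          _ = (a : G)⁻¹ * ((a' : G) * ((n : G) * (b' : G) * (n : G)⁻¹)) * ((n : G) * (b' : G) * (n : G)⁻¹)⁻¹ := by
              rw [h']
          _ = (a : G)⁻¹ * (a' : G) := by group
      have hb : (b : G) * (b' : G)⁻¹ = 1 := by
        by_contra hne
        have := hTI ((b : G) * (b' : G)⁻¹) (T.mul_mem b.2 (T.inv_mem b'.2)) hne n hnL
        rw [h1] at this
        exact this (T.mul_mem (T.inv_mem a.2) a'.2)
      have hbb : (b : G) = b' := by
        calc (b : G) = (b : G) * (b' : G)⁻¹ * b' := by group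
          _ = b' := by rw [hb, one_mul]
      have haa : (a : G) = a' := by
        rw [hb] at h1
        have : (a : G)⁻¹ * (a' : G) = 1 := by rw [← h1]; group
        calc (a : G) = a * ((a : G)⁻¹ * a') := by rw [this, mul_one]
          _ = a' := by group
      exact Prod.ext (Subtype.ext haa) (Subtype.ext hbb)
    have hcard : Nat.card T * Nat.card T ≤ Nat.card K := by
      rw [← Nat.card_prod]
      exact Nat.card_le_card_of_injective f hf
    set t := Nat.card T with ht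
    set e := Nat.card E with he
    set k := Nat.card K with hk
    rcases le_or_gt t p with htp | htp
    · have h1 : t * e ≤ p * e := Nat.mul_le_mul_right e htp
      have h2 : p * e + 2 * p ≤ p * p := by nlinarith
      nlinarith
    · have h1 : e + 3 ≤ t := by omega
      have h2 : t * e + 3 * t ≤ t * t := by nlinarith
      nlinarith
  · have hTle : Nat.card T ≤ Nat.card U := Subgroup.card_le_of_le hTU
    have hU2 : p ^ 2 ≤ Nat.card U := by
      rw [← hAcard]
      exact Subgroup.card_le_of_le hAU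
    have hep : Nat.card E ≤ p - 1 := Nat.le_of_dvd (by omega) hd
    set t := Nat.card T with ht
    set e := Nat.card E with he
    set k := Nat.card K with hk
    set u := Nat.card U with hu
    have h1 : t * e ≤ u * (p - 1) := Nat.mul_le_mul hTle hep
    have h2 : u * (p - 1) + u = p * u := by
      obtain ⟨c, hc⟩ : ∃ c, p = c + 1 := ⟨p - 1, by omega⟩
      rw [hc]
      simp
      ring
    have h3 : 4 ≤ p ^ 2 := by nlinarith
    omega

end Cfsg.Agent.Lib.Helper10.PF12
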