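import Mathlib

/-!
# PF12: the arithmetic endgame

Pure arithmetic.  `e = |N : K|`, `p` the prime, `k = |K|`, `u = |U|`, `m = |H : H'|`,
`c = c̄ = a_1 - a_θ` and `g = γ`.
-/

set_option autoImplicit false

namespace Cfsg.Agent.Lib.Helper10.PF12

/-- `γ = 0`: the right-hand side of the norm inequality is positive only for `γ = 0`. -/
theorem gamma_eq_zero (e k : ℕ) (g : ℤ) (hk : (e + 1) ^ 2 ≤ k)
    (hpos : 0 < (e : ℤ) ^ 2 + 2 * e * g - g ^ 2 * ((k : ℤ) - 1)) : g = 0 := by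
  by_contra hg
  have hk' : ((e : ℤ) + 1) ^ 2 ≤ (k : ℤ) := by exact_mod_cast hk
  have he0 : (0 : ℤ) ≤ e := Int.natCast_nonneg e
  have hg2 : 1 ≤ g ^ 2 := by
    have : g ^ 2 ≠ 0 := pow_ne_zero 2 hg
    have h0 : 0 ≤ g ^ 2 := sq_nonneg g
    omega
  -- `g ^ 2 * (k - 1) ≥ g ^ 2 * (e ^ 2 + 2 e) ≥ e ^ 2 + 2 e |g|`
  have h1 : g ^ 2 * ((e : ℤ) ^ 2 + 2 * e) ≤ g ^ 2 * ((k : ℤ) - 1) := by
    apply mul_le_mul_of_nonneg_left _ (sq_nonneg g)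
    nlinarith
  have h2 : (e : ℤ) ^ 2 + 2 * e * g ≤ g ^ 2 * ((e : ℤ) ^ 2 + 2 * e) := by
    nlinarith [sq_nonneg (g - 1), sq_nonneg g, mul_nonneg he0 (sq_nonneg (g - 1)),
      mul_nonneg (mul_nonneg he0 he0) (show (0 : ℤ) ≤ g ^ 2 - 1 by omega)]
  linarith

/-- `c̄ ^ 2 ≤ e` from the norm inequality with `γ = 0`. -/
theorem sq_le_of_norm (e k u m : ℕ) (c : ℤ) (he : 0 < e) (hm : e + 1 ≤ m) (hu : 0 < u)
    (huk : u ≤ k)
    (h : (1 - 1 / (m : ℝ)) * (c : ℝ) ^ 2 / (u : ℝ) < (e : ℝ) / (k : ℝ)) : c ^ 2 ≤ (e : ℤ) := by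
  have hk : 0 < k := lt_of_lt_of_le hu huk
  have hm0 : 0 < m := by omega
  have hmR : (0 : ℝ) < m := by exact_mod_cast hm0
  have huR : (0 : ℝ) < u := by exact_mod_cast hu
  have hkR : (0 : ℝ) < k := by exact_mod_cast hk
  have heR : (0 : ℝ) < e := by exact_mod_cast he
  have hukR : (u : ℝ) ≤ k := by exact_mod_cast huk
  have hmeR : (e : ℝ) + 1 ≤ m := by exact_mod_cast hm
  have hc0 : (0 : ℝ) ≤ (c : ℝ) ^ 2 := sq_nonneg _
  -- clear denominators: `(m - 1) c² k < e u m`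
  have h1 : (1 - 1 / (m : ℝ)) * (c : ℝ) ^ 2 / (u : ℝ) = ((m : ℝ) - 1) * (c : ℝ) ^ 2 / (m * u) := by
    field_simp
  rw [h1, div_lt_div_iff₀ (by positivity) hkR] at h
  -- `(m - 1) c² k < e m u ≤ e m k`, so `(m - 1) c² < e m`, and `m ≥ e + 1` gives `c² < e + 1`
  have h2 : ((m : ℝ) - 1) * (c : ℝ) ^ 2 * k < e * (m * k) := by
    calc ((m : ℝ) - 1) * (c : ℝ) ^ 2 * k < e * (m * u) := h
      _ ≤ e * (m * k) := by
        apply mul_le_mul_of_nonneg_left _ heR.le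
        exact mul_le_mul_of_nonneg_left hukR hmR.le
  have h3 : ((m : ℝ) - 1) * (c : ℝ) ^ 2 < e * m := by
    by_contra hcon
    push Not at hcon
    have := mul_le_mul_of_nonneg_right hcon hkR.le
    nlinarith
  have h4 : (c : ℝ) ^ 2 < (e : ℝ) + 1 := by
    by_contra hcon
    push Not at hcon
    -- `(m - 1) c² ≥ (m - 1)(e + 1) = e m + (m - 1 - e) ≥ e m`
    have hm1 : (0 : ℝ) ≤ (m : ℝ) - 1 := by linarith
    have := mul_le_mul_of_nonneg_left hcon hm1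
    nlinarith
  have h5 : ((c ^ 2 : ℤ) : ℝ) < ((e + 1 : ℤ) : ℝ) := by
    push_cast
    exact h4
  have h6 : c ^ 2 < (e : ℤ) + 1 := by exact_mod_cast h5
  omega

/-- The final contradiction: `c̄ ≡ e (mod p)`, `c̄ ^ 2 ≤ e`, `2 ≤ e`, `e + 2 ≤ p` and `e ∣ p ^ 2 - 1`
are incompatible. -/
theorem endgame_int (e p : ℕ) (c : ℤ) (he : 2 ≤ e) (hep : e + 2 ≤ p) (hdiv : e ∣ p ^ 2 - 1)
    (hcong : (p : ℤ) ∣ c - e) (hc : c ^ 2 ≤ (e : ℤ)) : False := by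
  obtain ⟨k, hk⟩ := hcong
  have hcE : c = e + p * k := by linarith
  have heZ : (2 : ℤ) ≤ e := by exact_mod_cast he
  have hepZ : (e : ℤ) + 2 ≤ p := by exact_mod_cast hep
  rcases lt_trichotomy k (-1) with hk1 | hk1 | hk1
  · -- `k ≤ -2`: `c ≤ e - 2p < 0` and `c² > e`
    have h1 : c ≤ e - 2 * p := by
      rw [hcE]
      nlinarith
    nlinarith
  · -- `k = -1`: `c = e - p = -d`
    subst hk1
    obtain ⟨d, hd⟩ : ∃ d : ℕ, p = e + d := ⟨p - e, by omega⟩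
    have hd2 : 2 ≤ d := by omega
    have hcd : c = -(d : ℤ) := by
      rw [hcE, hd]; push_cast; ring
    have hdd : d ^ 2 ≤ e := by
      have : ((d : ℤ)) ^ 2 ≤ e := by
        rw [hcd] at hc
        simpa using hc
      exact_mod_cast this
    -- `e ∣ d² - 1`
    have h1 : p ^ 2 - 1 = e * (e + 2 * d) + (d ^ 2 - 1) := by
      have hd1 : 1 ≤ d ^ 2 := Nat.one_le_pow _ _ (by omega)
      have : p ^ 2 = e * (e + 2 * d) + d ^ 2 := by rw [hd]; ring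
      omega
    rw [h1] at hdiv
    have h2 : e ∣ d ^ 2 - 1 := (Nat.dvd_add_right (Dvd.intro _ rfl)).mp hdiv
    have h3 : 0 < d ^ 2 - 1 := by
      have : 4 ≤ d ^ 2 := by nlinarith
      omega
    have := Nat.le_of_dvd h3 h2
    omega
  · -- `k ≥ 0`
    have hk0 : 0 ≤ k := by omega
    rcases eq_or_lt_of_le hk0 with hk00 | hkpos
    · -- `k = 0`: `c = e`
      rw [← hk00] at hcE
      simp at hcE
      rw [hcE] at hc
      nlinarith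
    · have h1 : (e : ℤ) + p ≤ c := by
        rw [hcE]
        nlinarith
      nlinarith

/-- **PF12 arithmetic endgame.**  The norm inequality (3), the congruence (2) and the structure of
the witness are incompatible. -/
theorem endgame (e p k u m : ℕ) (c g : ℤ) (he : 2 ≤ e) (hep : e + 2 ≤ p)
    (hdiv : e ∣ p ^ 2 - 1) (hk : (e + 1) ^ 2 ≤ k) (hu : 0 < u) (huk : u ≤ k) (hm : e + 1 ≤ m)
    (hcong : (p : ℤ) ∣ c - e - g)
    (hnorm : (1 - 1 / (m : ℝ)) * (c : ℝ) ^ 2 / (u : ℝ)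
      < ((e : ℝ) ^ 2 + 2 * e * g - (g : ℝ) ^ 2 * ((k : ℝ) - 1)) / ((e : ℝ) * k)) : False := by
  have he0 : 0 < e := by omega
  have hkpos : 0 < k := lt_of_lt_of_le hu huk
  have hm0 : 0 < m := by omega
  have heR : (0 : ℝ) < e := by exact_mod_cast he0
  have hkR : (0 : ℝ) < k := by exact_mod_cast hkpos
  have huR : (0 : ℝ) < u := by exact_mod_cast hu
  have hmR : (1 : ℝ) ≤ m := by exact_mod_cast hm0
  -- the left-hand side is non-negative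
  have hL : (0 : ℝ) ≤ (1 - 1 / (m : ℝ)) * (c : ℝ) ^ 2 / (u : ℝ) := by
    apply div_nonneg _ huR.le
    apply mul_nonneg _ (sq_nonneg _)
    rw [sub_nonneg, div_le_one (by linarith)]
    exact hmR
  have hR : (0 : ℝ) < ((e : ℝ) ^ 2 + 2 * e * g - (g : ℝ) ^ 2 * ((k : ℝ) - 1)) / ((e : ℝ) * k) :=
    lt_of_le_of_lt hL hnorm
  have hnum : (0 : ℝ) < (e : ℝ) ^ 2 + 2 * e * g - (g : ℝ) ^ 2 * ((k : ℝ) - 1) := by
    by_contra hcon
    push Not at hcon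
    have : ((e : ℝ) ^ 2 + 2 * e * g - (g : ℝ) ^ 2 * ((k : ℝ) - 1)) / ((e : ℝ) * k) ≤ 0 :=
      div_nonpos_of_nonpos_of_nonneg hcon (by positivity)
    linarith
  have hnumZ : 0 < (e : ℤ) ^ 2 + 2 * e * g - g ^ 2 * ((k : ℤ) - 1) := by
    have : ((0 : ℤ) : ℝ) < (((e : ℤ) ^ 2 + 2 * e * g - g ^ 2 * ((k : ℤ) - 1) : ℤ) : ℝ) := by
      push_cast
      exact hnum
    exact_mod_cast this
  have hg : g = 0 := gamma_eq_zero e k g hk hnumZ
  subst hg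
  have hnorm' : (1 - 1 / (m : ℝ)) * (c : ℝ) ^ 2 / (u : ℝ) < (e : ℝ) / (k : ℝ) := by
    have h1 : ((e : ℝ) ^ 2 + 2 * e * ((0 : ℤ) : ℝ) - (((0 : ℤ) : ℝ)) ^ 2 * ((k : ℝ) - 1)) / ((e : ℝ) * k)
        = (e : ℝ) / k := by
      field_simp
      push_cast
      ring
    rw [h1] at hnorm
    exact hnorm
  have hc := sq_le_of_norm e k u m c he0 hm hu huk hnorm'
  exact endgame_int e p c he hep hdiv (by simpa using hcong) hc

/-- `γ = 0`, non-strict form: if `(e + 2) ^ 2 ≤ k` and `0 ≤ e² + 2 e g - g² (k - 1)` then `g = 0`. -/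
theorem gamma_eq_zero' (e k : ℕ) (g : ℤ) (hk : (e + 2) ^ 2 ≤ k)
    (hpos : 0 ≤ (e : ℤ) ^ 2 + 2 * e * g - g ^ 2 * ((k : ℤ) - 1)) : g = 0 := by
  by_contra hg
  have hk' : ((e : ℤ) + 2) ^ 2 ≤ (k : ℤ) := by exact_mod_cast hk
  have he0 : (0 : ℤ) ≤ e := Int.natCast_nonneg e
  have hg2 : 1 ≤ g ^ 2 := by
    have : g ^ 2 ≠ 0 := pow_ne_zero 2 hg
    have h0 : 0 ≤ g ^ 2 := sq_nonneg g
    omega
  have h1 : g ^ 2 * ((e : ℤ) ^ 2 + 4 * e + 3) ≤ g ^ 2 * ((k : ℤ) - 1) := by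
    apply mul_le_mul_of_nonneg_left _ (sq_nonneg g)
    nlinarith
  have h2 : (e : ℤ) ^ 2 + 2 * e * g ≤ g ^ 2 * ((e : ℤ) ^ 2 + 2 * e) := by
    nlinarith [sq_nonneg (g - 1), sq_nonneg g, mul_nonneg he0 (sq_nonneg (g - 1)),
      mul_nonneg (mul_nonneg he0 he0) (show (0 : ℤ) ≤ g ^ 2 - 1 by omega)]
  nlinarith

/-- **PF12 package (AR): the arithmetic endgame** in the form used by the character core.
`cK = |K|`, `cH = |H|`, `cD = |H'|`, `cL = |L|`, `cN = |N|`, `g = γ`, and `e + g + p * m = c̄`. -/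
theorem pf12_arith (e p cK cH cL cN cD : ℕ) (g m : ℤ) (he3 : 3 ≤ e) (hep : e + 2 ≤ p)
    (hdvd : e ∣ p ^ 2 - 1) (hK : p ^ 2 ≤ cK) (hN : cN = e * cK) (hL : cL ≤ cH * cK)
    (hL0 : 0 < cL) (hH : (p + 1) * cD ≤ cH) (hD0 : 0 < cD)
    (hineq : (cL : ℝ)⁻¹ * (((cH : ℝ) - cD) * ((e : ℝ) + g + p * m) ^ 2)
      + (cN : ℝ)⁻¹ * ((cN : ℝ) - (e : ℝ) ^ 2 - 2 * g * e + (g : ℝ) ^ 2 * ((cK : ℝ) - 1)) ≤ 1) :
    False := by
  have he0 : 0 < e := by omega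
  have hp0 : 0 < p := by omega
  have hK0 : 0 < cK := lt_of_lt_of_le (by positivity) hK
  have hN0 : 0 < cN := by rw [hN]; positivity
  have hH0 : 0 < cH := lt_of_lt_of_le (by positivity) hH
  have heR : (0 : ℝ) < e := by exact_mod_cast he0
  have hpR : (0 : ℝ) < p := by exact_mod_cast hp0
  have hKR : (0 : ℝ) < cK := by exact_mod_cast hK0
  have hNR : (0 : ℝ) < cN := by exact_mod_cast hN0
  have hLR : (0 : ℝ) < cL := by exact_mod_cast hL0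
  have hHR : (0 : ℝ) < cH := by exact_mod_cast hH0
  have hDR : (0 : ℝ) < cD := by exact_mod_cast hD0
  have hHD : ((p : ℝ) + 1) * cD ≤ cH := by exact_mod_cast hH
  have hNe : (cN : ℝ) = e * cK := by exact_mod_cast hN
  have hLle : (cL : ℝ) ≤ cH * cK := by exact_mod_cast hL
  have hHD0 : (0 : ℝ) ≤ (cH : ℝ) - cD := by nlinarith
  set C : ℝ := (e : ℝ) + g + p * m with hC
  set Y : ℝ := (e : ℝ) ^ 2 + 2 * g * e - (g : ℝ) ^ 2 * ((cK : ℝ) - 1) with hY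
  -- `cL⁻¹ * ((cH - cD) * C²) ≤ Y / cN`
  have h1 : (cL : ℝ)⁻¹ * (((cH : ℝ) - cD) * C ^ 2) ≤ Y / cN := by
    have h2 : (cN : ℝ)⁻¹ * ((cN : ℝ) - (e : ℝ) ^ 2 - 2 * g * e + (g : ℝ) ^ 2 * ((cK : ℝ) - 1))
        = 1 - Y / cN := by
      rw [hY]; field_simp; ring
    rw [h2] at hineq
    linarith
  have hX0 : (0 : ℝ) ≤ (cL : ℝ)⁻¹ * (((cH : ℝ) - cD) * C ^ 2) := by positivity
  have hY0 : (0 : ℝ) ≤ Y := by
    have h3 : (0 : ℝ) ≤ Y / cN := le_trans hX0 h1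
    by_contra hcon
    push Not at hcon
    have : Y / cN < 0 := div_neg_of_neg_of_pos hcon hNR
    linarith
  -- `g = 0`
  have hk2 : (e + 2) ^ 2 ≤ cK := le_trans (Nat.pow_le_pow_left hep 2) hK
  have hYZ : 0 ≤ (e : ℤ) ^ 2 + 2 * e * g - g ^ 2 * ((cK : ℤ) - 1) := by
    have : ((0 : ℤ) : ℝ) ≤ (((e : ℤ) ^ 2 + 2 * e * g - g ^ 2 * ((cK : ℤ) - 1) : ℤ) : ℝ) := by
      push_cast
      rw [hY] at hY0
      linarith
    exact_mod_cast this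
  have hg : g = 0 := gamma_eq_zero' e cK g hk2 hYZ
  subst hg
  -- `c = e + p * m`
  set c : ℤ := (e : ℤ) + p * m with hc
  have hCc : C = (c : ℝ) := by rw [hC, hc]; push_cast; ring
  have hYe : Y = (e : ℝ) ^ 2 := by rw [hY]; push_cast; ring
  rw [hCc, hYe, hNe] at h1
  -- `(cH - cD) c² cK ≤ e cL`
  have h4 : ((cH : ℝ) - cD) * (c : ℝ) ^ 2 * cK ≤ e * cL := by
    have h5 : (e : ℝ) ^ 2 / (e * cK) = e / cK := by field_simp
    rw [h5, inv_mul_le_iff₀ hLR] at h1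
    have h7 : ((cH : ℝ) - cD) * (c : ℝ) ^ 2 * cK ≤ cL * (e / cK) * cK :=
      mul_le_mul_of_nonneg_right h1 hKR.le
    have h8 : (cL : ℝ) * (e / cK) * cK = e * cL := by field_simp
    linarith
  -- `(cH - cD) c² ≤ e cH`
  have hc0 : (0 : ℝ) ≤ (c : ℝ) ^ 2 := sq_nonneg _
  have h9 : ((cH : ℝ) - cD) * (c : ℝ) ^ 2 ≤ e * cH := by
    by_contra hcon
    push Not at hcon
    have h10 : (e : ℝ) * cH * cK < ((cH : ℝ) - cD) * (c : ℝ) ^ 2 * cK :=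
      mul_lt_mul_of_pos_right hcon hKR
    have h11 : (e : ℝ) * cL ≤ e * (cH * cK) := mul_le_mul_of_nonneg_left hLle heR.le
    have h11' : (e : ℝ) * (cH * cK) = e * cH * cK := by ring
    linarith
  -- `p c² cH ≤ (p + 1) (cH - cD) c² ≤ (p + 1) e cH`
  have h12 : (p : ℝ) * cH ≤ ((p : ℝ) + 1) * ((cH : ℝ) - cD) := by
    have h12' : ((p : ℝ) + 1) * ((cH : ℝ) - cD) = (p : ℝ) * cH + cH - ((p : ℝ) + 1) * cD := by ring
    linarith
  have h13 : (p : ℝ) * (c : ℝ) ^ 2 ≤ ((p : ℝ) + 1) * e := by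
    have h14 : (p : ℝ) * cH * (c : ℝ) ^ 2 ≤ ((p : ℝ) + 1) * ((cH : ℝ) - cD) * (c : ℝ) ^ 2 :=
      mul_le_mul_of_nonneg_right h12 hc0
    have h15 : ((p : ℝ) + 1) * (((cH : ℝ) - cD) * (c : ℝ) ^ 2) ≤ ((p : ℝ) + 1) * (e * cH) :=
      mul_le_mul_of_nonneg_left h9 (by linarith)
    have h16 : (p : ℝ) * (c : ℝ) ^ 2 * cH ≤ ((p : ℝ) + 1) * e * cH := by
      calc (p : ℝ) * (c : ℝ) ^ 2 * cH = (p : ℝ) * cH * (c : ℝ) ^ 2 := by ring
        _ ≤ ((p : ℝ) + 1) * ((cH : ℝ) - cD) * (c : ℝ) ^ 2 := h14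
        _ = ((p : ℝ) + 1) * (((cH : ℝ) - cD) * (c : ℝ) ^ 2) := by ring
        _ ≤ ((p : ℝ) + 1) * (e * cH) := h15
        _ = ((p : ℝ) + 1) * e * cH := by ring
    exact le_of_mul_le_mul_right h16 hHR
  have hepR : (e : ℝ) + 2 ≤ p := by exact_mod_cast hep
  have h17 : (c : ℝ) ^ 2 < (e : ℝ) + 1 := by
    by_contra hcon
    push Not at hcon
    have h17a : (p : ℝ) * ((e : ℝ) + 1) ≤ p * (c : ℝ) ^ 2 := mul_le_mul_of_nonneg_left hcon hpR.le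
    have h17b : (p : ℝ) * ((e : ℝ) + 1) = p * e + p := by ring
    have h17c : ((p : ℝ) + 1) * e = p * e + e := by ring
    linarith
  have h18 : ((c ^ 2 : ℤ) : ℝ) < ((e + 1 : ℤ) : ℝ) := by
    push_cast
    exact h17
  have h19 : c ^ 2 < (e : ℤ) + 1 := by exact_mod_cast h18
  have hcle : c ^ 2 ≤ (e : ℤ) := by omega
  exact endgame_int e p c (by omega) hep hdvd ⟨m, by rw [hc]; ring⟩ hcle

end Cfsg.Agent.Lib.Helper10.PF12
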