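import Mathlib
import Cfsg.Prelude.Def_OddOrderLocal
import Cfsg.Agent.S1350
import Cfsg.Agent.S1378
import Cfsg.Agent.S1432
import Cfsg.Agent.S1433
import Cfsg.Agent.Lib.Helper3.CopConj
import Cfsg.Agent.Lib.Helper23.Compl
import Cfsg.Agent.Lib.Helper27.BG.SigmaBasic
import Cfsg.Agent.Lib.Helper35.BG.Basic
import Cfsg.Agent.Lib.Helper35.BG.Hall
import Cfsg.Agent.Lib.Helper47.BG.SigmaNe
import Cfsg.Agent.Lib.Helper62.BG.S1362Core
import Cfsg.Agent.Lib.Helper76.BG.PolyTilde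
import Cfsg.Agent.Lib.Helper10.PF12.Arith

/-!
# PF12: Bender–Glauberman glue for the minimal pair `(L, N)`

* `not_mem_sigma_of_mem_compl`: elements of a complement of `L_σ` are `σ(L)'`-elements.
* `unique_coatom_of_singular`: if `κ(L) = ∅`, a `σ(L)'`-element `w ≠ 1` of `L` centralizing a
  non-identity element of `L_σ` has `C_G(w) ≤ L`, and `L` is the only maximal subgroup over `C_G(w)`.
* `conj_not_mem_of_singular` (hTI), `st_bound'` (ST'), `supportR_pow_eq` (R1),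
  `supportR_pow_mul_eq_bot` (R2), `dade_supports_disjoint` (D).
-/

set_option autoImplicit false

namespace Cfsg.Agent.Lib.Helper10.PF12

open Cfsg

variable {G : Type*} [Group G] [Finite G]

/-- Elements of a complement of `L_σ` in `L` are `σ(L)'`-elements. -/
theorem not_mem_sigma_of_mem_compl (hG : IsMinSimpleOddOrder G) {L U : Subgroup G}
    (hL : IsCoatom L) (hU : IsComplIn U (sigmaCore L) L) {w : G} (hw : w ∈ U) {q : ℕ}
    (hq : q.Prime) (hdvd : q ∣ orderOf w) : q ∉ sigma L := by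
  intro hqσ
  have hHall := (Cfsg.Agent.S1350.result hG L hL).1
  have h1 := hHall.2.2 q hq hqσ
  rw [Cfsg.Agent.Lib.Helper35.BG.relIndex_right_of_isComplIn hU] at h1
  apply h1
  have h2 : orderOf (⟨w, hw⟩ : U) ∣ Nat.card U := orderOf_dvd_natCard _
  rw [Subgroup.orderOf_mk] at h2
  exact hdvd.trans h2

/-- If `κ(L) = ∅`, a `σ(L)'`-element `w ≠ 1` of `L` which centralizes a non-identity element of
`L_σ` has `C_G(w) ≤ L`, and `L` is the unique maximal subgroup containing `C_G(w)` (from S1432). -/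
theorem unique_coatom_of_singular (hG : IsMinSimpleOddOrder G) {L : Subgroup G} (hL : IsCoatom L)
    (hk : kappa L = ∅) {w x : G} (hwL : w ∈ L) (hw1 : w ≠ 1)
    (hwσ : ∀ q : ℕ, q.Prime → q ∣ orderOf w → q ∉ sigma L)
    (hx : x ∈ sigmaCore L) (hx1 : x ≠ 1) (hwx : w * x = x * w) :
    Subgroup.centralizer ({w} : Set G) ≤ L ∧
      ∀ L' : Subgroup G, IsCoatom L' → Subgroup.centralizer ({w} : Set G) ≤ L' → L' = L := by
  have hwc : w ∈ L ⊓ Subgroup.centralizer ({x} : Set G) :=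
    ⟨hwL, Subgroup.mem_centralizer_singleton_iff.mpr hwx⟩
  rcases Cfsg.Agent.S1432.result hG L hL x hx hx1 w hwc hw1 hwσ with ⟨h1, -⟩ | ⟨-, -, h3⟩
  · exfalso
    have ho : orderOf w ≠ 1 := fun h => hw1 (orderOf_eq_one_iff.mp h)
    obtain ⟨q, hq, hdvd⟩ := Nat.exists_prime_and_dvd ho
    have := h1 q hq hdvd
    rw [hk] at this
    exact this
  · exact h3

/-- **(hTI).**  If `κ(L) = ∅`, `U` is a complement of `L_σ` in `L` and every non-identity element of
`T ≤ U` centralizes a non-identity element of `L_σ`, then `T` meets its conjugates under elements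
outside `L` trivially. -/
theorem conj_not_mem_of_singular (hG : IsMinSimpleOddOrder G) {L U T : Subgroup G}
    (hL : IsCoatom L) (hU : IsComplIn U (sigmaCore L) L) (hk : kappa L = ∅) (hTU : T ≤ U)
    (hT : ∀ w ∈ T, w ≠ 1 → ∃ x ∈ sigmaCore L, x ≠ 1 ∧ w * x = x * w) :
    ∀ w ∈ T, w ≠ 1 → ∀ n : G, n ∉ L → n * w * n⁻¹ ∉ T := by
  intro w hw hw1 n hnL hmem
  have hw'1 : n * w * n⁻¹ ≠ 1 := by
    intro h
    apply hw1
    have : w = n⁻¹ * (n * w * n⁻¹) * n := by group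
    rw [this, h]; group
  obtain ⟨x, hx, hx1, hwx⟩ := hT w hw hw1
  obtain ⟨x', hx', hx'1, hwx'⟩ := hT _ hmem hw'1
  have hσ : ∀ {v : G}, v ∈ T → ∀ q : ℕ, q.Prime → q ∣ orderOf v → q ∉ sigma L :=
    fun hv q hq hd => not_mem_sigma_of_mem_compl hG hL hU (hTU hv) hq hd
  obtain ⟨-, huniq⟩ :=
    unique_coatom_of_singular hG hL hk (hU.1 (hTU hw)) hw1 (hσ hw) hx hx1 hwx
  obtain ⟨hc', -⟩ :=
    unique_coatom_of_singular hG hL hk (hU.1 (hTU hmem)) hw'1 (hσ hmem) hx' hx'1 hwx'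
  have hL'co : IsCoatom (L.map (MulAut.conj n⁻¹).toMonoidHom) :=
    ((MulAut.conj n⁻¹).mapSubgroup.isCoatom_iff L).mpr hL
  have hle : Subgroup.centralizer ({w} : Set G) ≤ L.map (MulAut.conj n⁻¹).toMonoidHom := by
    intro c hc
    rw [Cfsg.Agent.Lib.Helper35.BG.mem_map_conj_iff]
    apply hc'
    rw [Subgroup.mem_centralizer_singleton_iff] at hc ⊢
    calc (n⁻¹)⁻¹ * c * n⁻¹ * (n * w * n⁻¹) = n * (c * w) * n⁻¹ := by group
      _ = n * (w * c) * n⁻¹ := by rw [hc]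
      _ = n * w * n⁻¹ * ((n⁻¹)⁻¹ * c * n⁻¹) := by group
  have hLL := huniq _ hL'co hle
  have hnN : n⁻¹ ∈ Subgroup.normalizer (L : Set G) :=
    Cfsg.Agent.Lib.Helper35.BG.mem_normalizer_of_map_conj_eq hLL
  rw [Cfsg.Agent.Lib.Helper62.BG.normalizer_coatom_eq_self hG hL
    (Cfsg.Agent.Lib.Helper47.BG.coatom_ne_bot hG hL)] at hnN
  exact hnL (by simpa using L.inv_mem hnN)

/-- **(ST').**  Same hypotheses as `structure_main` with `H = L_σ`, plus `κ(L) = ∅`: a subgroup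
`T` between `L_σ` and `L` all of whose elements outside `L_σ` centralize a non-identity element of
`L_σ` satisfies `|T| * e + 2 * |L_σ| ≤ |K| * |L_σ|`. -/
theorem st_bound' (hG : IsMinSimpleOddOrder G) (L U U₁ S K E A : Subgroup G) (p : ℕ)
    [hp : Fact p.Prime] (y : G) (hL : IsCoatom L) (hU : IsComplIn U (sigmaCore L) L)
    (hk : kappa L = ∅) (hE1 : E ≠ ⊥)
    (hcop : (Nat.card (sigmaCore L)).Coprime (Nat.card U))
    (hU₁ab : ∀ a ∈ U₁, ∀ b ∈ U₁, a * b = b * a)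
    (hU₁ : ∀ x ∈ sigmaCore L, x ≠ 1 → ∀ u ∈ U, u * x = x * u → u ∈ U₁)
    (hAU : A ≤ U) (hAcard : Nat.card A = p ^ 2) (hAexp : ∀ a ∈ A, a ^ p = 1)
    (hUA : U ≤ Subgroup.normalizer (A : Set G))
    (hAp : ∀ u ∈ U, u ^ p = 1 → u ∈ A)
    (hAcent : ∀ R : Subgroup G, R ≤ U → IsPGroup p R → R ≤ Subgroup.centralizer (A : Set G))
    (hCHA : sigmaCore L ⊓ Subgroup.centralizer (A : Set G) = ⊥)
    (hCA : Subgroup.centralizer (A : Set G) ≤ U)
    (hyA : y ∈ A) (hy1 : y ≠ 1) (hyH : ∃ x ∈ sigmaCore L, x ≠ 1 ∧ x * y = y * x)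
    (hNy : Subgroup.normalizer ((Subgroup.zpowers y : Subgroup G) : Set G) ≤ L)
    (hES : E ≤ S) (hSK : S ≤ Subgroup.normalizer (K : Set G)) (hKE : K ⊓ E = ⊥)
    (hSKE : ∀ s ∈ S, ∃ k ∈ K, ∃ e ∈ E, s = k * e)
    (hfpf : ∀ e ∈ E, e ≠ 1 → ∀ k ∈ K, e * k = k * e → k = 1)
    (hKnil : Group.IsNilpotent K) (hAK : A ≤ K) (hLS : L ⊓ S = U)
    (T : Subgroup G) (hHT : sigmaCore L ≤ T) (hTL : T ≤ L)
    (hT : ∀ t ∈ T, t ∉ sigmaCore L → ∃ h ∈ sigmaCore L, h ≠ 1 ∧ t * h = h * t) :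
    Nat.card T * Nat.card E + 2 * Nat.card (sigmaCore L) ≤ Nat.card K * Nat.card (sigmaCore L) := by
  have hHU : sigmaCore L ⊓ U = ⊥ := by rw [inf_comm]; exact hU.2.2.1
  have hLH : L ≤ Subgroup.normalizer (sigmaCore L : Set G) :=
    Cfsg.Agent.Lib.Helper67.BG.sigmaCore_normalizer L
  have hHsolv : Group.IsSolvable (sigmaCore L) :=
    Cfsg.Agent.Lib.Helper35.BG.isSolvable_of_ne_top hG
      (fun h => hL.1 (top_le_iff.mp (h ▸ Cfsg.Agent.Lib.Helper67.BG.sigmaCore_le L)))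
  -- `T ⊓ U` is a complement of `L_σ` in `T`
  have hcompl : IsComplIn (T ⊓ U) (sigmaCore L) T := by
    refine ⟨inf_le_left, hHT, ?_, ?_⟩
    · rw [eq_bot_iff]
      intro z hz
      have : z ∈ U ⊓ sigmaCore L := ⟨hz.1.2, hz.2⟩
      rw [hU.2.2.1] at this
      exact this
    · intro m hm
      obtain ⟨a, ha, b, hb, hab⟩ := hU.2.2.2 m (hTL hm)
      refine ⟨a, ⟨?_, ha⟩, b, hb, hab⟩
      have : a = m * b⁻¹ := by rw [hab]; group
      rw [this]
      exact T.mul_mem hm (T.inv_mem (hHT hb))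
  have hcardT : Nat.card T = Nat.card ↥(T ⊓ U) * Nat.card (sigmaCore L) :=
    Cfsg.Agent.Lib.Helper23.card_of_isComplIn hcompl
  have hsing : ∀ w ∈ T ⊓ U, w ≠ 1 → ∃ x ∈ sigmaCore L, x ≠ 1 ∧ w * x = x * w := by
    intro w hw hw1
    apply hT w hw.1
    intro hwH
    have : w ∈ U ⊓ sigmaCore L := ⟨hw.2, hwH⟩
    rw [hU.2.2.1, Subgroup.mem_bot] at this
    exact hw1 this
  have hTI := conj_not_mem_of_singular hG hL hU hk (inf_le_right : T ⊓ U ≤ U) hsing
  have hb := st_bound L (sigmaCore L) U U₁ S K E A p y hG.1 hE1 hU.1 hLH hHU hcop hHsolv hU₁ab hU₁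
    hAU hAcard hAexp hUA hAp hAcent hCHA hCA hyA hy1 hyH hNy hES hSK hKE hSKE hfpf hKnil hAK hLS
    (T ⊓ U) inf_le_right hTI
  rw [hcardT]
  nlinarith [hb, Nat.zero_le (Nat.card (sigmaCore L))]

omit [Finite G] in
/-- The centralizers of `u` and of `u ^ i` agree when `u` has prime order `p` and `0 < i < p`. -/
theorem centralizer_pow_eq {u : G} {p : ℕ} (hp : p.Prime) (hu : orderOf u = p) {i : ℕ}
    (hi0 : 0 < i) (hip : i < p) :
    Subgroup.centralizer ({u ^ i} : Set G) = Subgroup.centralizer ({u} : Set G) := by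
  have hcop : Nat.Coprime i p := (Nat.coprime_of_lt_prime hi0.ne' hip hp).symm
  apply le_antisymm
  · intro c hc
    rw [Subgroup.mem_centralizer_singleton_iff] at hc ⊢
    -- `u` is a power of `u ^ i`
    obtain ⟨j, -, hj⟩ := Nat.exists_mul_mod_eq_one_of_coprime hcop hp.one_lt
    have hpow : (u ^ i) ^ j = u := by
      rw [← pow_mul, ← pow_mod_orderOf, hu, hj, pow_one]
    have hcj : Commute c ((u ^ i) ^ j) := (Commute.pow_right (show Commute c (u ^ i) from hc) j)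
    rw [hpow] at hcj
    exact hcj
  · intro c hc
    rw [Subgroup.mem_centralizer_singleton_iff] at hc ⊢
    exact Commute.pow_right (show Commute c u from hc) i

omit [Finite G] in
/-- **(R1).**  If `C_G(u)` is not contained in `N` and `L` is the unique maximal subgroup containing
`C_G(u)`, then `R_N(u ^ i) = L_F ∩ C_G(u)` for `0 < i < p = |u|`. -/
theorem supportR_pow_eq {L N : Subgroup G} (hL : IsCoatom L) {u : G} {p : ℕ} (hp : p.Prime)
    (hu : orderOf u = p) (hcL : Subgroup.centralizer ({u} : Set G) ≤ L)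
    (huniq : ∀ L' : Subgroup G, IsCoatom L' → Subgroup.centralizer ({u} : Set G) ≤ L' → L' = L)
    (hnN : ¬ Subgroup.centralizer ({u} : Set G) ≤ N) (i : ℕ) (hi0 : 0 < i) (hip : i < p) :
    supportR N (u ^ i) = fittingHallOf L ⊓ Subgroup.centralizer ({u} : Set G) := by
  classical
  have hc := centralizer_pow_eq hp hu hi0 hip
  have hcond : ¬ Subgroup.centralizer ({u ^ i} : Set G) ≤ N ∧
      ∃! L' : Subgroup G, IsCoatom L' ∧ Subgroup.centralizer ({u ^ i} : Set G) ≤ L' := by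
    rw [hc]
    exact ⟨hnN, L, ⟨hL, hcL⟩, fun L' h => huniq L' h.1 h.2⟩
  unfold supportR
  rw [dif_pos hcond]
  have hspec := Classical.choose_spec hcond.2.exists
  have hle : Subgroup.centralizer ({u} : Set G) ≤ Classical.choose hcond.2.exists :=
    (le_of_eq hc.symm).trans hspec.2
  rw [huniq _ hspec.1 hle, hc]

/-- **(R2).**  If `u` has prime order `p` not dividing `|H|`, normalizes `H ≤ L` and `C_G(u) ≤ L`,
then `C_G(u ^ i * h) ≤ L` and hence `R_L(u ^ i * h) = 1` for all `h ∈ H`, `0 < i < p`. -/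
theorem supportR_pow_mul_eq_bot {L H : Subgroup G} (hHL : H ≤ L) {u : G} {p : ℕ} (hp : p.Prime)
    (hu : orderOf u = p) (huH : u ∈ Subgroup.normalizer (H : Set G))
    (hpH : ¬ p ∣ Nat.card H) (hcL : Subgroup.centralizer ({u} : Set G) ≤ L)
    (h : G) (hh : h ∈ H) (i : ℕ) (hi0 : 0 < i) (hip : i < p) :
    Subgroup.centralizer ({u ^ i * h} : Set G) ≤ L ∧ supportR L (u ^ i * h) = ⊥ := by
  have hc := centralizer_pow_eq hp hu hi0 hip
  have hcopi : Nat.Coprime p i := Nat.coprime_of_lt_prime hi0.ne' hip hp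
  set a := u ^ i with ha
  have haN : a ∈ Subgroup.normalizer (H : Set G) := Subgroup.pow_mem _ huH i
  have hao : orderOf a = p := by
    rw [ha, Nat.Coprime.orderOf_pow (by rw [hu]; exact hcopi), hu]
  have hcop : (orderOf a).Coprime (Nat.card H) := by
    rw [hao]; exact (Nat.Prime.coprime_iff_not_dvd hp).mpr hpH
  have hh' : a * h * a⁻¹ ∈ H := (Subgroup.mem_normalizer_iff.mp haN h).mp hh
  obtain ⟨v, hv, c, hcH, hca, hconj⟩ :=
    Cfsg.Agent.Lib.Helper3.CopConj.exists_conj_mem_centralizer_coset H a haN hcop _ hh'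
  have hah : a * h * a⁻¹ * a = a * h := by group
  rw [hah] at hconj
  obtain ⟨m, hm1, hm0⟩ := Nat.chineseRemainder hcop 1 0
  have hpow : (c * a) ^ m = a := Cfsg.Agent.Lib.Helper3.CopConj.pow_mul_eq hm1 hm0 hcH hca
  have hle : Subgroup.centralizer ({a * h} : Set G) ≤ L := by
    intro g hg
    rw [Subgroup.mem_centralizer_singleton_iff] at hg
    have h1 : Commute (v * g * v⁻¹) (c * a) := by
      rw [← hconj]
      show v * g * v⁻¹ * (v * (a * h) * v⁻¹) = v * (a * h) * v⁻¹ * (v * g * v⁻¹)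
      calc v * g * v⁻¹ * (v * (a * h) * v⁻¹) = v * (g * (a * h)) * v⁻¹ := by group
        _ = v * (a * h * g) * v⁻¹ := by rw [hg]
        _ = v * (a * h) * v⁻¹ * (v * g * v⁻¹) := by group
    have h2 : Commute (v * g * v⁻¹) a := by
      have := h1.pow_right m
      rwa [hpow] at this
    have h3 : v * g * v⁻¹ ∈ Subgroup.centralizer ({u} : Set G) := by
      rw [← hc]
      exact Subgroup.mem_centralizer_singleton_iff.mpr h2
    have h4 := hcL h3
    have hvL : v ∈ L := hHL hv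
    have : g = v⁻¹ * (v * g * v⁻¹) * v := by group
    rw [this]
    exact L.mul_mem (L.mul_mem (L.inv_mem hvL) h4) hvL
  exact ⟨hle, Cfsg.Agent.Lib.Helper76.BG.supportR_eq_bot_of_le hle⟩

/-- **(D), Claim D.**  For maximal subgroups `L`, `N` with a prime `p ∈ σ(N) \ σ(L)`, no element is
conjugate both into a coset `a R_L(a)` (`a ∈ L_σ \ 1`) and into a coset `k R_N(k)`
(`k ∈ N_σ \ 1`). -/
theorem dade_supports_disjoint (hG : IsMinSimpleOddOrder G) {L N : Subgroup G} (hL : IsCoatom L)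
    (hN : IsCoatom N) {p : ℕ} (hpN : p ∈ sigma N) (hpL : p ∉ sigma L) (g : G) :
    ¬ ((∃ a ∈ sigmaCore L, a ≠ 1 ∧ ∃ r ∈ supportR L a, ∃ x : G, x * g * x⁻¹ = a * r) ∧
       (∃ k ∈ sigmaCore N, k ≠ 1 ∧ ∃ r ∈ supportR N k, ∃ y : G, y * g * y⁻¹ = k * r)) := by
  rintro ⟨⟨a, ha, ha1, r, hr, x, hx⟩, ⟨k, hk, hk1, s, hs, y, hy⟩⟩
  have hne : ∀ g : G, N ≠ L.map (MulAut.conj g).toMonoidHom := by
    intro g' h
    apply hpL
    rw [← Cfsg.Agent.Lib.Helper27.BG.sigma_map_conj L g', ← h]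
    exact hpN
  have hdisj := Cfsg.Agent.Lib.Helper76.BG.tilde_disjoint hG (Cfsg.Agent.S1378.result hG)
    (Cfsg.Agent.S1433.result hG) L N hL hN hne
  have h1 : g ∈ tildeOf L ((sigmaCore L : Set G) \ {1}) := by
    refine ⟨a, ⟨ha, by simpa using ha1⟩, r, hr, x⁻¹, ?_⟩
    rw [← hx]; group
  have h2 : g ∈ tildeOf N ((sigmaCore N : Set G) \ {1}) := by
    refine ⟨k, ⟨hk, by simpa using hk1⟩, s, hs, y⁻¹, ?_⟩
    rw [← hy]; group
  have : g ∈ tildeOf L ((sigmaCore L : Set G) \ {1}) ∩ tildeOf N ((sigmaCore N : Set G) \ {1}) :=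
    ⟨h1, h2⟩
  rw [hdisj] at this
  exact this

omit [Finite G] in
/-- (TH) with the weakest hypotheses: `A ≅ E_{p²}` normalizes the solvable `p'`-group `H ≠ 1`. -/
theorem exists_singular_not_mem_commutator' [Finite G] (H A : Subgroup G) (p : ℕ)
    [hp : Fact p.Prime] (hAN : A ≤ Subgroup.normalizer (H : Set G)) (hpH : ¬ p ∣ Nat.card H)
    (hHsolv : Group.IsSolvable H) (hH1 : H ≠ ⊥)
    (hAcard : Nat.card A = p ^ 2) (hAexp : ∀ a ∈ A, a ^ p = 1) :
    ∃ u ∈ A, u ≠ 1 ∧ ∃ x ∈ H, x ∉ (⁅H, H⁆ : Subgroup G) ∧ x * u = u * x :=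
  exists_singular_not_mem_commutator (Subgroup.normalizer (H : Set G)) H A A p hAN le_rfl
    (by rw [hAcard]
        exact Nat.Coprime.pow_right 2 ((Nat.Prime.coprime_iff_not_dvd hp.out).mpr hpH).symm)
    hHsolv hH1 le_rfl hAcard hAexp

omit [Finite G] in
/-- (AR2) with the weakest hypotheses. -/
theorem relIndex_commutator_ge' [Finite G] (H A : Subgroup G) (p : ℕ) [hp : Fact p.Prime]
    (hAN : A ≤ Subgroup.normalizer (H : Set G)) (hpH : ¬ p ∣ Nat.card H)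
    (hHsolv : Group.IsSolvable H) (hH1 : H ≠ ⊥) (hAcard : Nat.card A = p ^ 2)
    (hCHA : H ⊓ Subgroup.centralizer (A : Set G) = ⊥) :
    p + 1 ≤ (⁅H, H⁆ : Subgroup G).relIndex H :=
  relIndex_commutator_ge (Subgroup.normalizer (H : Set G)) H A A p hAN le_rfl
    (by rw [hAcard]
        exact Nat.Coprime.pow_right 2 ((Nat.Prime.coprime_iff_not_dvd hp.out).mpr hpH).symm)
    hHsolv hH1 le_rfl hAcard hCHA

end Cfsg.Agent.Lib.Helper10.PF12
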