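import Mathlib
import Cfsg.Agent.Lib.Helper3.CopConj
import Cfsg.Agent.Lib.Helper9.CN

/-!
# PF12: elements stabilizing a non-trivial linear character centralize a non-identity element

Character-free form.  `M` plays the role of the kernel of a non-trivial linear character `θ` of the
nilpotent group `H`; an element `t` normalizing `H` fixes `θ` iff `h⁻¹ * (t * h * t⁻¹) ∈ M` for all
`h ∈ H`.  If moreover some power `t ^ m` with `m` prime to `|H|` lies in `H`, then `t` centralizes a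
non-identity element of `H`.
-/

set_option autoImplicit false

namespace Cfsg.Agent.Lib.Helper10.PF12

universe u

variable {G : Type u} [Group G]

/-- Coprime action: an element `s` of order prime to `|M|` normalizing `M` and stabilizing the coset
`x₀ M` commutes with some element of that coset. -/
theorem exists_comm_mem_coset [Finite G] (M : Subgroup G) (s x₀ : G)
    (hs : s ∈ Subgroup.normalizer (M : Set G)) (hcop : (orderOf s).Coprime (Nat.card M))
    (hinv : x₀⁻¹ * (s * x₀ * s⁻¹) ∈ M) :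
    ∃ m ∈ M, s * (x₀ * m) = (x₀ * m) * s := by
  obtain ⟨v, hv, u, hu, huc, hconj⟩ :=
    Cfsg.Agent.Lib.Helper3.CopConj.exists_conj_mem_centralizer_coset M s hs hcop _ hinv
  obtain ⟨k, hk1, hk0⟩ := Nat.chineseRemainder hcop 1 0
  have hpow : (u * s) ^ k = s := Cfsg.Agent.Lib.Helper3.CopConj.pow_mul_eq hk1 hk0 hu huc
  have hsk : s ^ k = s := by
    have h3 := pow_eq_pow_iff_modEq.mpr hk1
    simpa using h3
  have hg : (v * x₀⁻¹) * s * (v * x₀⁻¹)⁻¹ = u * s := by
    rw [← hconj]; group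
  have hg2 : (v * x₀⁻¹) * s * (v * x₀⁻¹)⁻¹ = s := by
    have : ((v * x₀⁻¹) * s * (v * x₀⁻¹)⁻¹) ^ k = (u * s) ^ k := by rw [hg]
    rw [conj_pow, hsk, hpow] at this
    exact this
  refine ⟨v⁻¹, M.inv_mem hv, ?_⟩
  have h1 : (v * x₀⁻¹) * s = s * (v * x₀⁻¹) := by
    calc (v * x₀⁻¹) * s = ((v * x₀⁻¹) * s * (v * x₀⁻¹)⁻¹) * (v * x₀⁻¹) := by group
      _ = s * (v * x₀⁻¹) := by rw [hg2]
  calc s * (x₀ * v⁻¹) = (x₀ * v⁻¹) * ((v * x₀⁻¹) * s) * (x₀ * v⁻¹) := by group
    _ = (x₀ * v⁻¹) * (s * (v * x₀⁻¹)) * (x₀ * v⁻¹) := by rw [h1]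
    _ = (x₀ * v⁻¹) * s := by group

/-- If `t` normalizes `H` and `M` and moves every `h ∈ H` inside its coset `h M`, so do its
powers. -/
theorem pow_stabilizes (H M : Subgroup G) (t : G)
    (htH : t ∈ Subgroup.normalizer (H : Set G)) (htM : t ∈ Subgroup.normalizer (M : Set G))
    (hinv : ∀ h ∈ H, h⁻¹ * (t * h * t⁻¹) ∈ M) (j : ℕ) :
    ∀ h ∈ H, h⁻¹ * (t ^ j * h * (t ^ j)⁻¹) ∈ M := by
  induction j with
  | zero =>
    intro h _
    simp
  | succ j ih =>
    intro h hh
    have h1 := ih h hh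
    have hh' : t ^ j * h * (t ^ j)⁻¹ ∈ H :=
      (Subgroup.mem_normalizer_iff.mp (Subgroup.pow_mem _ htH j) h).mp hh
    have h2 := hinv _ hh'
    have h3 : t * (h⁻¹ * (t ^ j * h * (t ^ j)⁻¹)) * t⁻¹ ∈ M :=
      (Subgroup.mem_normalizer_iff.mp htM _).mp h1
    have h4 := hinv h hh
    -- h⁻¹ t^(j+1) h t^-(j+1) = (h⁻¹ (t h t⁻¹)) * (t (h⁻¹ (t^j h t^-j)) t⁻¹)
    have : h⁻¹ * (t ^ (j + 1) * h * (t ^ (j + 1))⁻¹)
        = (h⁻¹ * (t * h * t⁻¹)) * (t * (h⁻¹ * (t ^ j * h * (t ^ j)⁻¹)) * t⁻¹) := by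
      rw [pow_succ']; group
    rw [this]
    exact M.mul_mem h4 h3

/-- **Stabilizers of non-trivial linear characters consist of singular elements.**  `H` nilpotent,
`M < H` (the kernel of the character), `t` normalizes `H` and `M`, some power `t ^ m` with `m` prime
to `|H|` lies in `H`, and `t` moves every `h ∈ H` inside its coset `h M`.  Then `t` commutes with a
non-identity element of `H`. -/
theorem exists_comm_of_stabilizes [Finite G] (H M : Subgroup G) (hMH : M ≤ H) (hMne : M ≠ H)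
    (hnil : Group.IsNilpotent H) (t : G)
    (htH : t ∈ Subgroup.normalizer (H : Set G)) (htM : t ∈ Subgroup.normalizer (M : Set G))
    (m : ℕ) (hm : t ^ m ∈ H) (hmcop : m.Coprime (Nat.card H))
    (hinv : ∀ h ∈ H, h⁻¹ * (t * h * t⁻¹) ∈ M) :
    ∃ h ∈ H, h ≠ 1 ∧ t * h = h * t := by
  classical
  have hHbot : H ≠ ⊥ := by
    rintro rfl
    exact hMne (le_antisymm hMH bot_le)
  by_cases htin : t ∈ H
  · -- `t ∈ H`: take a central element of `H`
    have : Nontrivial H := (Subgroup.nontrivial_iff_ne_bot H).mpr hHbot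
    have hc := Group.IsNilpotent.center_ne_bot (G := H)
    obtain ⟨z, hz1⟩ := (Subgroup.ne_bot_iff_exists_ne_one).mp hc
    refine ⟨((z : H) : G), (z : H).2, ?_, ?_⟩
    · intro h
      apply hz1
      apply Subtype.ext
      apply Subtype.ext
      simpa using h
    · have := (Subgroup.mem_center_iff.mp z.2) (⟨t, htin⟩ : H)
      have h2 := congrArg (Subtype.val : H → G) this
      simpa using h2
  · -- `t ∉ H`
    have hm1 : m ≠ 1 := by
      rintro rfl
      exact htin (by simpa using hm)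
    have hm0 : m ≠ 0 := by
      rintro rfl
      rw [Nat.coprime_zero_left] at hmcop
      exact hHbot (Subgroup.card_eq_one.mp hmcop)
    set n := Nat.card H with hn
    obtain ⟨a, ha1, ha0⟩ := Nat.chineseRemainder hmcop 1 0
    have ha_pos : 1 ≤ a := by
      by_contra h
      have h0 : a = 0 := by omega
      rw [h0] at ha1
      have : m ∣ 1 := by
        have := (Nat.modEq_iff_dvd' (Nat.zero_le 1)).mp ha1
        simpa using this
      exact hm1 (Nat.dvd_one.mp this)
    obtain ⟨c, hc⟩ : m ∣ a - 1 := (Nat.modEq_iff_dvd' ha_pos).mp ha1.symm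
    obtain ⟨d, hd⟩ : n ∣ a := (Nat.modEq_zero_iff_dvd).mp ha0
    set s := t ^ a with hs
    -- `s ^ m = 1`
    have hsm : s ^ m = 1 := by
      rw [hs, ← pow_mul, mul_comm, pow_mul, hd, pow_mul]
      have : (t ^ m) ^ n = 1 := by
        have h1 : orderOf (⟨t ^ m, hm⟩ : H) ∣ Nat.card H := orderOf_dvd_natCard _
        rw [Subgroup.orderOf_mk] at h1
        exact orderOf_dvd_iff_pow_eq_one.mp h1
      rw [this, one_pow]
    have hso : (orderOf s).Coprime (Nat.card M) := by
      have h1 : orderOf s ∣ m := orderOf_dvd_of_pow_eq_one hsm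
      have h2 : Nat.card M ∣ n := Subgroup.card_dvd_of_le hMH
      exact Nat.Coprime.coprime_dvd_left h1 (Nat.Coprime.coprime_dvd_right h2 hmcop)
    have hsH : s ∈ Subgroup.normalizer (H : Set G) := Subgroup.pow_mem _ htH a
    have hsM : s ∈ Subgroup.normalizer (M : Set G) := Subgroup.pow_mem _ htM a
    have hsinv := pow_stabilizes H M t htH htM hinv a
    -- an element of `H \ M` commuting with `s`
    obtain ⟨x₀, hx₀H, hx₀M⟩ : ∃ x₀ ∈ H, x₀ ∉ M := by
      by_contra hcon
      push Not at hcon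
      exact hMne (le_antisymm hMH hcon)
    obtain ⟨m', hm'M, hcomm⟩ := exists_comm_mem_coset M s x₀ hsM hso (hsinv x₀ hx₀H)
    have hxH : x₀ * m' ∈ H := H.mul_mem hx₀H (hMH hm'M)
    have hx1 : x₀ * m' ≠ 1 := by
      intro h
      apply hx₀M
      have : x₀ = (x₀ * m') * m'⁻¹ := by group
      rw [this, h, one_mul]
      exact M.inv_mem hm'M
    -- `C₀ = C_H(s)` is nilpotent and non-trivial, and contains `h₀ = s⁻¹ t`
    set C₀ : Subgroup G := H ⊓ Subgroup.centralizer ({s} : Set G) with hC₀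
    have hC₀nil : Group.IsNilpotent C₀ :=
      Cfsg.Agent.Lib.Helper9.isNilpotent_of_le' (inf_le_left : C₀ ≤ H) hnil
    have hxC : x₀ * m' ∈ C₀ :=
      ⟨hxH, Subgroup.mem_centralizer_singleton_iff.mpr hcomm.symm⟩
    have hC₀bot : C₀ ≠ ⊥ := by
      intro h
      rw [h, Subgroup.mem_bot] at hxC
      exact hx1 hxC
    have hts : t * s = s * t := by
      rw [hs, ← pow_succ', ← pow_succ]
    have hh₀H : s⁻¹ * t ∈ H := by
      have h1 : t ^ (a - 1) ∈ H := by
        rw [hc, pow_mul]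
        exact H.pow_mem hm c
      have h2 : s⁻¹ * t = (t ^ (a - 1))⁻¹ := by
        have h3 : s = t ^ (a - 1) * t := by
          rw [hs, ← pow_succ]
          congr 1
          omega
        rw [h3]; group
      rw [h2]
      exact H.inv_mem h1
    have hh₀C : s⁻¹ * t ∈ C₀ := by
      refine ⟨hh₀H, Subgroup.mem_centralizer_singleton_iff.mpr ?_⟩
      calc s⁻¹ * t * s = s⁻¹ * (t * s) := by group
        _ = s⁻¹ * (s * t) := by rw [hts]
        _ = s * (s⁻¹ * t) := by group
    have : Nontrivial C₀ := (Subgroup.nontrivial_iff_ne_bot C₀).mpr hC₀bot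
    have hcen := Group.IsNilpotent.center_ne_bot (G := C₀)
    obtain ⟨z, hz1⟩ := (Subgroup.ne_bot_iff_exists_ne_one).mp hcen
    have hzC : ((z : C₀) : G) ∈ C₀ := (z : C₀).2
    refine ⟨((z : C₀) : G), hzC.1, ?_, ?_⟩
    · intro h
      apply hz1
      apply Subtype.ext
      apply Subtype.ext
      simpa using h
    · have h1 := (Subgroup.mem_center_iff.mp z.2) (⟨s⁻¹ * t, hh₀C⟩ : C₀)
      have h2 : (s⁻¹ * t) * ((z : C₀) : G) = ((z : C₀) : G) * (s⁻¹ * t) :=
        congrArg (Subtype.val : C₀ → G) h1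
      have h3 : ((z : C₀) : G) * s = s * ((z : C₀) : G) :=
        Subgroup.mem_centralizer_singleton_iff.mp hzC.2
      calc t * ((z : C₀) : G) = s * ((s⁻¹ * t) * ((z : C₀) : G)) := by group
        _ = s * (((z : C₀) : G) * (s⁻¹ * t)) := by rw [h2]
        _ = (s * ((z : C₀) : G)) * (s⁻¹ * t) := by group
        _ = (((z : C₀) : G) * s) * (s⁻¹ * t) := by rw [h3]
        _ = ((z : C₀) : G) * t := by group

end Cfsg.Agent.Lib.Helper10.PF12
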